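import Groth.Agent.ThmA.Glue
import Groth.Agent.NumTau.Cor
import Groth.Agent.Bdd.Free

/-!
# Boundedness of families of invertible modules is detected on projective modifications
-/

set_option autoImplicit false
set_option linter.style.haveILetI false
set_option linter.unusedSectionVars false
set_option backward.isDefEq.respectTransparency false
set_option backward.isDefEq.respectTransparency.types false
set_option maxHeartbeats 1000000
attribute [-instance] CategoryTheory.catToReflQuiver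

universe u v

open CategoryTheory CategoryTheory.Limits AlgebraicGeometry TopologicalSpace Opposite
open Groth.Agent.H23.PicMul

noncomputable section

namespace Groth.Agent.ThmA

open Groth.Agent

variable {X : Scheme.{u}}

theorem isZero_of_support_empty {G : X.Modules} (hG : Coh.IsQCoh G) (h : CohB1.support G = ∅) : IsZero G := by
  choose U hU hxU using fun x : X => QCoh.exists_affine_mem x
  refine QCoh.isZero_of_cover hG U hU (fun x => ⟨x, hxU x⟩) fun x => subsingleton_of_forall_eq 0 fun m => ?_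
  refine QCoh.eq_zero_of_locally _ _ fun y hy => ?_
  have hny : y ∉ CohB1.support G := by rw [h]; exact Set.notMem_empty y
  obtain ⟨f, hf, hf0⟩ := (QCoh.notMem_support_iff hG (hU x) hy).1 hny m
  exact ⟨_, homOfLE (X.basicOpen_le f), hf, QCoh.res_eq_zero_of_smul_eq_zero _ f le_rfl _ hf0⟩

theorem tw_biprod (P Q M : X.Modules) :
    Nonempty (CohB1.tensorMod P M ⊞ CohB1.tensorMod Q M ≅ CohB1.tensorMod (P ⊞ Q) M) := by
  haveI : PreservesColimitsOfSize.{u, u} (AmpleVan.tw M) := inferInstance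
  haveI : PreservesColimitsOfSize.{0, 0} (AmpleVan.tw M) := preservesColimitsOfSize_shrink.{0, u, 0, u} _
  exact ⟨biprod.isoCoprod _ _ ≪≫ PreservesColimitPair.iso (AmpleVan.tw M) P Q ≪≫
    (AmpleVan.tw M).mapIso (biprod.isoCoprod P Q).symm⟩

/-- Twists of each coherent module are quotients, and submodules, of fixed coherent modules. -/
theorem quo_sub_tensor (k : Type u) [Field k] [X.Over (Spec (CommRingCat.of k))]
    [IsProper (X ↘ Spec (CommRingCat.of k))] {ι : Type v} (M N : ι → X.Modules)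
    (hM : ∀ i, PicF.IsInvertible (M i)) (hNM : ∀ i, PicF.cl (N i) * PicF.cl (M i) = 1)
    (hyp : ∀ (X' : Scheme.{u}) (p : X' ⟶ X), IsProper p → (∃ A : X'.Modules, CohB1.IsAmple A) →
      ∃ A B : X'.Modules, Coh.IsCoh A ∧ Coh.IsCoh B ∧
        ∀ i, ∃ a : A ⟶ B, Nonempty (cokernel a ≅ (Scheme.Modules.pullback p).obj (N i)))
    {G : X.Modules} (hG : Coh.IsCoh G) :
    Quo (fun i => CohB1.tensorMod G (M i)) ∧ Sub (fun i => CohB1.tensorMod G (M i)) := by
  let f := X ↘ Spec (CommRingCat.of k)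
  haveI : IsLocallyNoetherian X := LocallyOfFiniteType.isLocallyNoetherian f
  haveI : CompactSpace X := QuasiCompact.compactSpace_of_compactSpace f
  haveI : IsNoetherian X := {}
  suffices H : ∀ (C : Closeds X) (G : X.Modules), Coh.IsCoh G → CohB1.support G ⊆ (C : Set X) →
      Quo (fun i => CohB1.tensorMod G (M i)) ∧ Sub (fun i => CohB1.tensorMod G (M i)) from
    H ⊤ G hG fun x _ => trivial
  clear hG G
  intro C
  induction C using WellFoundedLT.induction with
  | ind C IH =>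
  intro G hG hGC
  have hequiv : ∀ i, (AmpleVan.tw (M i)).IsEquivalence := fun i => AmpleVan.isEquivalence_tw (hM i)
  rcases Set.eq_empty_or_nonempty (CohB1.support G) with h0 | hne
  · have hz := isZero_of_support_empty hG.1 h0
    have hz' : ∀ i, IsZero (CohB1.tensorMod G (M i)) := fun i => (AmpleVan.tw (M i)).map_isZero hz
    exact ⟨⟨G, hG, fun i => ⟨0, (hz' i).epi 0⟩⟩, ⟨G, hG, fun i => ⟨0, (hz' i).mono 0⟩⟩⟩
  obtain ⟨X', p, hp, hamp, F', ε, W, hF', hW, hloc⟩ := exists_chow_unit k hG hne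
  haveI := hp
  have hWC : W < C := SetLike.lt_iff_le_and_exists.2 ⟨hW.1.trans hGC,
    let ⟨x, hx, hxW⟩ := Set.exists_of_ssubset hW; ⟨x, hGC hx, hxW⟩⟩
  obtain ⟨A, B, hA, hB, hpres⟩ := hyp X' p hp hamp
  obtain ⟨hRQ, hRS⟩ := quo_sub_push k p M N hM hNM hA hB hpres hF'
  have hR : Coh.IsCoh ((Coh.push p).obj F') := ExistEasy.isCoh_pushforward_proper p hF'
  obtain ⟨Gr, Gn, Rn, η, δ, ψ, hη, hψ, hsmall⟩ := exists_glue hG hR ε W hloc
  have ih : ∀ N ∈ ({Gr, Gn, Rn} : Set X.Modules),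
      Quo (fun i => CohB1.tensorMod N (M i)) ∧ Sub (fun i => CohB1.tensorMod N (M i)) :=
    fun N hN => IH W hWC N (hsmall N hN).1 (hsmall N hN).2
  haveI := hη
  haveI := hψ
  have hsum : ∀ (P : X.Modules) (i), Nonempty
      (CohB1.tensorMod ((Coh.push p).obj F') (M i) ⊞ CohB1.tensorMod P (M i) ≅
        CohB1.tensorMod ((Coh.push p).obj F' ⊞ P) (M i)) := fun P i => tw_biprod _ P (M i)
  refine ⟨?_, ?_⟩
  · have h1 := Quo.of_iso (hRQ.biprod (ih Gn (by simp)).1) (hsum Gn)
    refine (Quo.kernel k h1 (ih Rn (by simp)).2 fun i => (AmpleVan.tw (M i)).map δ).of_epi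
      (fun i => haveI := hequiv i; (PreservesKernel.iso (AmpleVan.tw (M i)) δ).inv ≫ (AmpleVan.tw (M i)).map ψ)
      fun i => ?_
    haveI := hequiv i
    exact epi_comp _ _
  · exact (Sub.of_iso (hRS.biprod (ih Gr (by simp)).2) (hsum Gr)).of_mono
      (fun i => (AmpleVan.tw (M i)).map η) fun i => by
        haveI := hequiv i
        infer_instance

/-- Invertible modules whose inverses are presented on every projective modification form a bounded family. -/
theorem isBounded_of_presented {k : Type u} [Field k] [X.Over (Spec (CommRingCat.of k))]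
    [IsProper (X ↘ Spec (CommRingCat.of k))] {P : X.Modules → Prop} (hinv : ∀ L, P L → PicF.IsInvertible L)
    (hyp : ∀ (X' : Scheme.{u}) (p : X' ⟶ X), IsProper p → (∃ A : X'.Modules, CohB1.IsAmple A) →
      ∃ A B : X'.Modules, Coh.IsCoh A ∧ Coh.IsCoh B ∧
        ∀ L L', P L → PicF.IsInvertible L' → PicF.cl L * PicF.cl L' = 1 →
          (∃ a : A ⟶ B, Nonempty (cokernel a ≅ (Scheme.Modules.pullback p).obj L')) ) :
    Pic13.IsBounded k X P := by
  classical
  let f := X ↘ Spec (CommRingCat.of k)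
  haveI : IsLocallyNoetherian X := LocallyOfFiniteType.isLocallyNoetherian f
  let ι := {L : X.Modules // P L}
  have hi : ∀ i : ι, ∃ N, PicF.IsInvertible N ∧ PicF.cl i.1 * PicF.cl N = 1 := fun i => by
    obtain ⟨D, hD, e⟩ := H23.PicInv.exists_inverse (hinv _ i.2)
    exact ⟨D, hD, NumTau.cl_mul_one_of_iso e⟩
  choose N hN hMN using hi
  have hO : Coh.IsCoh (Coh.structureModule X) := QCoh.isCoh_structureModule'
  obtain ⟨hQ, hS⟩ := quo_sub_tensor k (fun i : ι => i.1) N (fun i => hinv _ i.2)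
    (fun i => by rw [mul_comm, hMN]) (fun X' p hp hamp => by
      obtain ⟨A, B, hA, hB, h⟩ := hyp X' p hp hamp
      exact ⟨A, B, hA, hB, fun i => h i.1 (N i) i.2 (hN i) (hMN i)⟩) hO
  have e : ∀ i : ι, Nonempty (CohB1.tensorMod (Coh.structureModule X) i.1 ≅ i.1) := fun i =>
    cl_eq_iff.1 (by rw [cl_tensor, ← H23.PicMul.one_def, one_mul])
  obtain ⟨B, hB, hBi⟩ := Quo.of_iso hQ e
  obtain ⟨C, hC, hCi⟩ := Sub.of_iso hS e
  obtain ⟨B₀, hB₀, h₀⟩ := exists_quot_kernel k hB hC
  obtain ⟨r, φ, hφ⟩ := exists_spanning (k := k) hB₀ hB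
  refine Bdd.isBounded_mono (Bdd.isBounded_coker hB₀ hB φ) fun L hL => ?_
  obtain ⟨g, hg⟩ := hBi ⟨L, hL⟩
  obtain ⟨c, hc⟩ := hCi ⟨L, hL⟩
  obtain ⟨γ, hγ⟩ := h₀ (g ≫ c)
  obtain ⟨a, ha⟩ := hφ (γ ≫ kernel.ι (g ≫ c))
  refine ⟨cokernel (Bdd.comb φ a), ⟨a, ⟨Iso.refl _⟩⟩, ⟨?_⟩⟩
  exact cokernelIsoOfEq ha ≪≫ cokernelEpiComp γ _ ≪≫ cokernelIsoOfEq (show kernel.ι (g ≫ c) = (kernelCompMono g c).hom ≫ kernel.ι g by simp) ≪≫
    cokernelEpiComp (kernelCompMono g c).hom (kernel.ι g) ≪≫
    IsColimit.coconePointUniqueUpToIso (colimit.isColimit _)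
      (Abelian.epiIsCokernelOfKernel (limit.cone _) (limit.isLimit _))

variable {k : Type u} [Field k] [IsAlgClosed k] [X.Over (Spec (CommRingCat.of k))]
  [IsProper (X ↘ Spec (CommRingCat.of k))]

/-- Invertible modules which are numerically finite on every projective modification form a bounded family. -/
theorem isBounded_of_num {P : X.Modules → Prop} (hinv : ∀ L, P L → PicF.IsInvertible L)
    (hyp : ∀ (X' : Scheme.{u}) [X'.Over (Spec (CommRingCat.of k))] [IsProper (X' ↘ Spec (CommRingCat.of k))]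
      (p : X' ⟶ X), p ≫ (X ↘ Spec (CommRingCat.of k)) = X' ↘ Spec (CommRingCat.of k) →
      ∀ H : X'.Modules, CohB1.IsAmple H →
      ∃ (q : ℕ) (R : Fin q → X'.Modules), (∀ j, PicF.IsInvertible (R j)) ∧ ∀ L, P L →
        ∃ (j : Fin q) (D : X'.Modules), NumTau.NT k D ∧
          PicF.cl ((Scheme.Modules.pullback p).obj L) = PicF.cl (R j) * PicF.cl D) :
    Pic13.IsBounded k X P := by
  classical
  refine isBounded_of_presented hinv fun X' p hp hamp => ?_
  haveI := hp
  letI : X'.Over (Spec (CommRingCat.of k)) := ⟨p ≫ X ↘ Spec (CommRingCat.of k)⟩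
  haveI : IsProper (X' ↘ Spec (CommRingCat.of k)) :=
    MorphismProperty.comp_mem @IsProper _ _ hp inferInstance
  haveI : IsLocallyNoetherian X' := LocallyOfFiniteType.isLocallyNoetherian (X' ↘ Spec (CommRingCat.of k))
  obtain ⟨H, hH⟩ := hamp
  obtain ⟨q, R, hR, hrep⟩ := hyp X' p rfl H hH
  choose R' hR' hRR' using fun j => H23.PicInv.exists_inverse (hR j)
  have hb : Pic13.IsBounded k X' (fun F => ∃ j ∈ (Finset.univ : Finset (Fin q)),
      ∃ G, NumTau.NT k G ∧ Nonempty (CohB1.tensorMod G (R' j) ≅ F)) :=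
    Bdd.isBounded_exists_mem Finset.univ fun j _ => Bdd.isBounded_tensor (NumTau.isBounded_nt hH) (hR' j)
  obtain ⟨A, B, hA, hB, hpres⟩ := exists_presentation hb
  refine ⟨A, B, hA, hB, fun L L' hL hL' hcl => hpres _ ?_⟩
  obtain ⟨j, D, hD, hLD⟩ := hrep L hL
  obtain ⟨D', hD', hDD'⟩ := hD.inv
  refine ⟨j, Finset.mem_univ j, D', hD', cl_eq_iff.1 ?_⟩
  rw [cl_tensor]
  have h1 : PicF.cl ((Scheme.Modules.pullback p).obj L) * PicF.cl ((Scheme.Modules.pullback p).obj L') = 1 :=
    Big.cl_pull_one p hcl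
  have h2 : PicF.cl (R j) * PicF.cl (R' j) = 1 := NumTau.cl_mul_one_of_iso (hRR' j)
  calc PicF.cl D' * PicF.cl (R' j)
      = (PicF.cl D' * PicF.cl (R' j)) *
          (PicF.cl ((Scheme.Modules.pullback p).obj L) * PicF.cl ((Scheme.Modules.pullback p).obj L')) := by
        rw [h1, mul_one]
    _ = (PicF.cl D * PicF.cl D') * (PicF.cl (R j) * PicF.cl (R' j)) *
          PicF.cl ((Scheme.Modules.pullback p).obj L') := by rw [hLD]; ac_rfl
    _ = _ := by rw [hDD', h2, one_mul, one_mul]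

end Groth.Agent.ThmA

end
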