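import Groth.Agent.ThmA.Kernels
import Groth.Agent.NumTau.Fam
import Groth.Agent.FibFlatMod.StageGlobal

/-!
# Bounded families of invertible modules on a proper scheme lie in finitely many connected families
-/

set_option autoImplicit false
set_option linter.style.haveILetI false
set_option linter.unusedSectionVars false
set_option backward.isDefEq.respectTransparency false
set_option backward.isDefEq.respectTransparency.types false
set_option maxHeartbeats 1000000
attribute [-instance] CategoryTheory.catToReflQuiver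

universe u

open CategoryTheory CategoryTheory.Limits AlgebraicGeometry TopologicalSpace Opposite

noncomputable section

namespace Groth.Agent.ThmA

open Groth.Agent

variable {k : Type u} [Field k] {X : Scheme.{u}} [X.Over (Spec (CommRingCat.of k))]
  [IsProper (X ↘ Spec (CommRingCat.of k))]

/-- The invertible fibres of a flat family over an irreducible base form one connected family. -/
theorem exists_fam_of_flat {T : Scheme.{u}} (q : T ⟶ Spec (CommRingCat.of k)) [LocallyOfFiniteType q]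
    [QuasiCompact q] [IrreducibleSpace T] {F : (Pic13.prodK k X q).Modules} (hF : Coh.IsCoh F)
    (hflat : FlatMod.IsFlatOver (pullback.snd (X ↘ Spec (CommRingCat.of k)) q) F) :
    ∃ l : List (NumTau.Fam k X), ∀ (t : Spec (CommRingCat.of k) ⟶ T) (ht : t ≫ q = 𝟙 _) (L : X.Modules),
      PicF.IsInvertible L → Nonempty (Pic13.fibreMod k X q t ht F ≅ L) → ∃ 𝔽 ∈ l, 𝔽.Mem L := by
  classical
  let pr := pullback.snd (X ↘ Spec (CommRingCat.of k)) q
  haveI : IsLocallyNoetherian T := LocallyOfFiniteType.isLocallyNoetherian q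
  haveI : CompactSpace T := QuasiCompact.compactSpace_of_compactSpace q
  haveI : IsNoetherian T := {}
  haveI : IsLocallyNoetherian (Pic13.prodK k X q) := LocallyOfFiniteType.isLocallyNoetherian pr
  haveI : IsProper pr := inferInstanceAs (IsProper (pullback.snd (X ↘ Spec (CommRingCat.of k)) q))
  let U : T.Opens :=
    ⟨(pr '' (NumTau.invLocus F : Set (Pic13.prodK k X q))ᶜ)ᶜ,
      (pr.isClosedMap _ (NumTau.invLocus F).2.isClosed_compl).isOpen_compl⟩
  have hmem : ∀ (t : Spec (CommRingCat.of k) ⟶ T) (ht : t ≫ q = 𝟙 _) (L : X.Modules),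
      PicF.IsInvertible L → Nonempty (Pic13.fibreMod k X q t ht F ≅ L) → t (IsLocalRing.closedPoint k) ∈ U := by
    rintro t ht L hL ⟨e⟩ ⟨z, hz, hzt⟩
    have hsl := NumTau.isPullback_slice (X := X) q t ht
    obtain ⟨x, hx, -⟩ := Scheme.exists_preimage_of_isPullback hsl z (IsLocalRing.closedPoint k) hzt
    rw [← hx] at hz
    exact hz (NumTau.mem_invLocus_of_slice hsl hF hflat e hL x)
  rcases (U : Set T).eq_empty_or_nonempty with h0 | hne
  · refine ⟨[], fun t ht L hL he => absurd (hmem t ht L hL he) ?_⟩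
    show t (IsLocalRing.closedPoint k) ∉ (U : Set T)
    rw [h0]
    exact Set.notMem_empty _
  let V : Scheme.{u} := U.toScheme
  haveI : CompactSpace V := by
    haveI : NoetherianSpace ↥(U : Set T) := NoetherianSpace.set _
    exact inferInstanceAs (CompactSpace ↥(U : Set T))
  haveI hconn : ConnectedSpace V := by
    show ConnectedSpace ↥(U : Set T)
    refine Subtype.connectedSpace (IsIrreducible.isConnected ⟨hne, ?_⟩)
    exact (PreirreducibleSpace.isPreirreducible_univ (X := T)).open_subset U.2 (Set.subset_univ _)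
  haveI : QuasiCompact (U.ι ≫ q) := (quasiCompact_iff_compactSpace _).2 inferInstance
  haveI : LocallyOfFiniteType (U.ι ≫ q) := inferInstance
  let mj : Pic13.prodK k X (U.ι ≫ q) ⟶ Pic13.prodK k X q :=
    pullback.map _ _ _ _ (𝟙 X) U.ι (𝟙 _) (by simp) (by simp)
  have hinvV : PicF.IsInvertible ((Scheme.Modules.pullback mj).obj F) := by
    have hr : Set.range mj ⊆ Set.range (NumTau.invLocus F).ι := by
      rintro _ ⟨z, rfl⟩
      rw [Scheme.Opens.range_ι]
      by_contra hz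
      have h1 : pr (mj z) = U.ι (pullback.snd (X ↘ Spec (CommRingCat.of k)) (U.ι ≫ q) z) := by
        have h2 : mj ≫ pr = pullback.snd _ _ ≫ U.ι := pullback.lift_snd _ _ _
        rw [← Scheme.Hom.comp_apply, h2]
        rfl
      exact (pullback.snd (X ↘ Spec (CommRingCat.of k)) (U.ι ≫ q) z).2 ⟨_, hz, h1⟩
    let l := IsOpenImmersion.lift (NumTau.invLocus F).ι mj hr
    exact H23.PicMul.isInvertible_of_iso
      ((Scheme.Modules.pullback l).mapIso ((Scheme.Modules.restrictFunctorIsoPullback (NumTau.invLocus F).ι).app F) ≪≫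
        (Scheme.Modules.pullbackComp l (NumTau.invLocus F).ι).app F ≪≫
        (Scheme.Modules.pullbackCongr (IsOpenImmersion.lift_fac _ _ _)).app F)
      (PicClLib.isInvertible_pullback l (NumTau.isInvertible_restrict_of_le le_rfl))
  let 𝔽 : NumTau.Fam k X := ⟨V, U.ι ≫ q, hconn, inferInstance, inferInstance, _, hinvV⟩
  refine ⟨[𝔽], fun t ht L hL he => ⟨𝔽, List.mem_singleton.2 rfl, ?_⟩⟩
  have hr : Set.range t ⊆ Set.range U.ι := by
    rintro _ ⟨a, rfl⟩
    rw [Scheme.Opens.range_ι, show a = IsLocalRing.closedPoint k from Subsingleton.elim _ _]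
    exact hmem t ht L hL he
  let t' := IsOpenImmersion.lift U.ι t hr
  have ht'j : t' ≫ U.ι = t := IsOpenImmersion.lift_fac _ _ _
  have ht' : t' ≫ U.ι ≫ q = 𝟙 _ := by rw [← Category.assoc, ht'j]; exact ht
  obtain ⟨e'⟩ := NumTau.fibreMod_comp q U.ι F t' ht'
  obtain ⟨e⟩ := he
  exact ⟨t', ht', ⟨e' ≪≫ (Scheme.Modules.pullbackCongr (by simp [Pic13.sliceAt, ht'j])).app F ≪≫ e⟩⟩

variable (k X) in
/-- The invertible fibres over a closed subset of an affine base lie in finitely many families. -/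
theorem exists_fams_affine (D : Type u) [CommRing D] [IsNoetherianRing D]
    (q : Spec (CommRingCat.of D) ⟶ Spec (CommRingCat.of k)) [LocallyOfFiniteType q]
    {F : (Pic13.prodK k X q).Modules} (hF : Coh.IsCoh F) (𝔞 : Ideal D) :
    ∃ l : List (NumTau.Fam k X), ∀ (t : Spec (CommRingCat.of k) ⟶ Spec (CommRingCat.of D)) (ht : t ≫ q = 𝟙 _)
      (L : X.Modules), 𝔞 ≤ RingHom.ker (Spec.preimage t).hom →
      PicF.IsInvertible L → Nonempty (Pic13.fibreMod k X q t ht F ≅ L) → ∃ 𝔽 ∈ l, 𝔽.Mem L := by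
  classical
  induction 𝔞 using WellFoundedGT.induction with
  | _ 𝔞 IH =>
  by_cases htop : 𝔞 = ⊤
  · refine ⟨[], fun t ht L ha => absurd (ha (show (1 : D) ∈ 𝔞 by rw [htop]; trivial)) ?_⟩
    simp
  by_cases hp : 𝔞.IsPrime
  swap
  · obtain ⟨x, hx, y, hy, hxy⟩ := ((Ideal.not_isPrime_iff).1 hp).resolve_left htop
    obtain ⟨l₁, h₁⟩ := IH (𝔞 ⊔ Ideal.span {x}) (left_lt_sup.2 fun h => hx (h (Ideal.mem_span_singleton_self x)))
    obtain ⟨l₂, h₂⟩ := IH (𝔞 ⊔ Ideal.span {y}) (left_lt_sup.2 fun h => hy (h (Ideal.mem_span_singleton_self y)))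
    refine ⟨l₁ ++ l₂, fun t ht L ha hL he => ?_⟩
    rcases (RingHom.ker_isPrime (Spec.preimage t).hom).mem_or_mem (ha hxy) with h | h
    · obtain ⟨𝔽, h𝔽, hm⟩ := h₁ t ht L (sup_le ha ((Ideal.span_singleton_le_iff_mem _).2 h)) hL he
      exact ⟨𝔽, List.mem_append_left _ h𝔽, hm⟩
    · obtain ⟨𝔽, h𝔽, hm⟩ := h₂ t ht L (sup_le ha ((Ideal.span_singleton_le_iff_mem _).2 h)) hL he
      exact ⟨𝔽, List.mem_append_right _ h𝔽, hm⟩
  haveI := hp
  let f := X ↘ Spec (CommRingCat.of k)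
  let D' := D ⧸ 𝔞
  let j : Spec (CommRingCat.of D') ⟶ Spec (CommRingCat.of D) :=
    Spec.map (CommRingCat.ofHom (Ideal.Quotient.mk 𝔞))
  haveI : IsClosedImmersion j := IsClosedImmersion.spec_of_surjective _ Ideal.Quotient.mk_surjective
  haveI : LocallyOfFiniteType (j ≫ q) := inferInstance
  haveI : IsIntegral (Spec (CommRingCat.of D')) := inferInstance
  haveI : IsLocallyNoetherian (Spec (CommRingCat.of D')) := LocallyOfFiniteType.isLocallyNoetherian (j ≫ q)
  let pr' : Pic13.prodK k X (j ≫ q) ⟶ Spec (CommRingCat.of D') := pullback.snd f (j ≫ q)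
  haveI : LocallyOfFiniteType pr' := inferInstanceAs (LocallyOfFiniteType (pullback.snd f (j ≫ q)))
  haveI : QuasiCompact pr' := inferInstanceAs (QuasiCompact (pullback.snd f (j ≫ q)))
  haveI : IsLocallyNoetherian (Pic13.prodK k X (j ≫ q)) := LocallyOfFiniteType.isLocallyNoetherian pr'
  let mj : Pic13.prodK k X (j ≫ q) ⟶ Pic13.prodK k X q :=
    pullback.map _ _ _ _ (𝟙 X) j (𝟙 _) (by simp) (by simp)
  let F' := (Scheme.Modules.pullback mj).obj F
  have hF' : Coh.IsCoh F' := ZClosLib.isCoh_pullback _ hF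
  obtain ⟨U, ⟨x₀, hx₀⟩, hflat⟩ := S4698.result pr' F' hF'
  obtain ⟨_, ⟨d', rfl⟩, hxd, hdU⟩ :=
    (PrimeSpectrum.isTopologicalBasis_basic_opens (R := D')).exists_subset_of_mem_open hx₀ U.2
  obtain ⟨d, rfl⟩ := Ideal.Quotient.mk_surjective d'
  have hd : d ∉ 𝔞 := fun h => hxd (by
    rw [Ideal.Quotient.eq_zero_iff_mem.2 h]; exact zero_mem _)
  let D'' := Localization.Away (Ideal.Quotient.mk 𝔞 d)
  haveI : IsDomain D'' := IsLocalization.isDomain_localization
    (powers_le_nonZeroDivisors_of_noZeroDivisors fun h => hd (Ideal.Quotient.eq_zero_iff_mem.1 h))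
  let l : Spec (CommRingCat.of D'') ⟶ Spec (CommRingCat.of D') :=
    Spec.map (CommRingCat.ofHom (algebraMap D' D''))
  haveI : IsOpenImmersion l := IsOpenImmersion.of_isLocalization (Ideal.Quotient.mk 𝔞 d)
  haveI : LocallyOfFiniteType (l ≫ j ≫ q) := inferInstance
  haveI : QuasiCompact (l ≫ j ≫ q) := (quasiCompact_iff_compactSpace _).2 inferInstance
  haveI : IsIntegral (Spec (CommRingCat.of D'')) := inferInstance
  let ml : Pic13.prodK k X (l ≫ j ≫ q) ⟶ Pic13.prodK k X (j ≫ q) :=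
    pullback.map _ _ _ _ (𝟙 X) l (𝟙 _) (by simp) (by simp)
  let F'' := (Scheme.Modules.pullback ml).obj F'
  haveI : IsLocallyNoetherian (Pic13.prodK k X (l ≫ j ≫ q)) :=
    LocallyOfFiniteType.isLocallyNoetherian (pullback.snd f (l ≫ j ≫ q))
  have hF'' : Coh.IsCoh F'' := ZClosLib.isCoh_pullback _ hF'
  have hflat'' : FlatMod.IsFlatOver (pullback.snd f (l ≫ j ≫ q)) F'' := fun z => by
    have hc : IsPullback ml (pullback.snd f (l ≫ j ≫ q)) pr' l := by
      refine IsPullback.of_right ?_ (pullback.lift_snd _ _ _) (IsPullback.of_hasPullback _ (j ≫ q))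
      rw [show ml ≫ pullback.fst _ _ = pullback.fst _ _ from (pullback.lift_fst _ _ _).trans (Category.comp_id _)]
      exact IsPullback.of_hasPullback _ _
    refine MorLib.FlatBC.isFlatOverAt_baseChange pr' _ ml l hc _ z (hflat _ ?_)
    show pr' (ml z) ∈ U
    rw [← Scheme.Hom.comp_apply, hc.w, Scheme.Hom.comp_apply]
    refine hdU ?_
    show Ideal.Quotient.mk 𝔞 d ∉ ((pullback.snd f (l ≫ j ≫ q) z).asIdeal.comap (algebraMap D' D''))
    intro h
    exact (pullback.snd f (l ≫ j ≫ q) z).2.ne_top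
      (Ideal.eq_top_of_isUnit_mem _ h (IsLocalization.Away.algebraMap_isUnit (Ideal.Quotient.mk 𝔞 d)))
  obtain ⟨l₁, h₁⟩ := exists_fam_of_flat (l ≫ j ≫ q) hF'' hflat''
  obtain ⟨l₂, h₂⟩ := IH (𝔞 ⊔ Ideal.span {d}) (left_lt_sup.2 fun h => hd (h (Ideal.mem_span_singleton_self d)))
  refine ⟨l₁ ++ l₂, fun t ht L ha hL he => ?_⟩
  let ev : D →+* k := (Spec.preimage t).hom
  by_cases hda : ev d = 0
  · obtain ⟨𝔽, h𝔽, hm⟩ := h₂ t ht L (sup_le ha ((Ideal.span_singleton_le_iff_mem _).2 hda)) hL he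
    exact ⟨𝔽, List.mem_append_right _ h𝔽, hm⟩
  let ev' : D' →+* k := Ideal.Quotient.lift 𝔞 ev fun z hz => ha hz
  have hu : IsUnit (ev' (Ideal.Quotient.mk 𝔞 d)) := isUnit_iff_ne_zero.2 hda
  let ev'' : D'' →+* k := IsLocalization.Away.lift (Ideal.Quotient.mk 𝔞 d) (g := ev') hu
  let t'' : Spec (CommRingCat.of k) ⟶ Spec (CommRingCat.of D'') := Spec.map (CommRingCat.ofHom ev'')
  have htl : t'' ≫ l ≫ j = t := by
    rw [← Spec.map_comp, ← Spec.map_comp, ← CommRingCat.ofHom_comp, ← CommRingCat.ofHom_comp]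
    conv_rhs => rw [← Spec.map_preimage t]
    congr 1
    refine CommRingCat.hom_ext (RingHom.ext fun z => ?_)
    exact (IsLocalization.Away.lift_eq (Ideal.Quotient.mk 𝔞 d) (g := ev') hu (Ideal.Quotient.mk 𝔞 z))
  have ht'' : t'' ≫ l ≫ j ≫ q = 𝟙 _ := by
    rw [← Category.assoc l, ← Category.assoc t'', htl]; exact ht
  obtain ⟨e₁⟩ := NumTau.fibreMod_comp (j ≫ q) l F' t'' ht''
  obtain ⟨e₂⟩ := NumTau.fibreMod_comp q j F (t'' ≫ l) (by rw [Category.assoc]; exact ht'')
  obtain ⟨e⟩ := he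
  obtain ⟨𝔽, h𝔽, hm⟩ := h₁ t'' ht'' L hL ⟨e₁ ≪≫ e₂ ≪≫
    (Scheme.Modules.pullbackCongr (by simp [Pic13.sliceAt, htl])).app F ≪≫ e⟩
  exact ⟨𝔽, List.mem_append_left _ h𝔽, hm⟩

/-- A bounded family of invertible modules on a proper scheme lies in finitely many connected invertible families. -/
theorem exists_families_proper {P : X.Modules → Prop} (hinv : ∀ L, P L → PicF.IsInvertible L)
    (hP : Pic13.IsBounded k X P) :
    ∃ (N : ℕ) (𝔽 : Fin N → NumTau.Fam k X), ∀ L, P L → ∃ j, (𝔽 j).Mem L := by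
  classical
  obtain ⟨T₀, q₀, hq, hqc, F₀, hF₀, hmem⟩ := hP
  haveI := hq; haveI := hqc
  haveI : IsLocallyNoetherian T₀ := LocallyOfFiniteType.isLocallyNoetherian q₀
  haveI : CompactSpace T₀ := QuasiCompact.compactSpace_of_compactSpace q₀
  obtain ⟨s, hs, hcov⟩ := isCompact_iff_finite_and_eq_biUnion_affineOpens.mp
    (show IsCompact ((⊤ : T₀.Opens) : Set T₀) by simpa using isCompact_univ)
  haveI := hs.to_subtype
  have hpiece : ∀ U : s, ∃ l : List (NumTau.Fam k X), ∀ (t₀ : Spec (CommRingCat.of k) ⟶ T₀) (ht₀ : t₀ ≫ q₀ = 𝟙 _)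
      (L : X.Modules), t₀ (IsLocalRing.closedPoint k) ∈ U.1.1 → PicF.IsInvertible L →
      Nonempty (Pic13.fibreMod k X q₀ t₀ ht₀ F₀ ≅ L) → ∃ 𝔽 ∈ l, 𝔽.Mem L := by
    intro U
    haveI : IsNoetherianRing Γ(T₀, U.1.1) := IsLocallyNoetherian.component_noetherian U.1
    let w : Spec Γ(T₀, U.1.1) ⟶ T₀ := U.1.2.fromSpec
    haveI : IsLocallyNoetherian (Spec Γ(T₀, U.1.1)) := LocallyOfFiniteType.isLocallyNoetherian w
    haveI : LocallyOfFiniteType (w ≫ q₀) := inferInstance
    haveI : IsLocallyNoetherian (Pic13.prodK k X (w ≫ q₀)) :=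
      LocallyOfFiniteType.isLocallyNoetherian (pullback.snd (X ↘ Spec (CommRingCat.of k)) (w ≫ q₀))
    let m : Pic13.prodK k X (w ≫ q₀) ⟶ Pic13.prodK k X q₀ :=
      pullback.map _ _ _ _ (𝟙 X) w (𝟙 _) (by simp) (by simp)
    obtain ⟨l, hl⟩ := exists_fams_affine k X Γ(T₀, U.1.1) (w ≫ q₀)
      (F := (Scheme.Modules.pullback m).obj F₀) (ZClosLib.isCoh_pullback _ hF₀) ⊥
    refine ⟨l, fun t₀ ht₀ L hU hL he => ?_⟩
    have hr : Set.range t₀ ⊆ Set.range w := by
      rintro _ ⟨z, rfl⟩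
      rw [IsAffineOpen.range_fromSpec, show z = IsLocalRing.closedPoint k from Subsingleton.elim _ _]
      exact hU
    let t := IsOpenImmersion.lift w t₀ hr
    have htw : t ≫ w = t₀ := IsOpenImmersion.lift_fac _ _ _
    have ht : t ≫ w ≫ q₀ = 𝟙 _ := by rw [← Category.assoc, htw]; exact ht₀
    obtain ⟨e'⟩ := NumTau.fibreMod_comp q₀ w F₀ t ht
    obtain ⟨e⟩ := he
    exact hl t ht L bot_le hL ⟨e' ≪≫ (Scheme.Modules.pullbackCongr (by simp [Pic13.sliceAt, htw])).app F₀ ≪≫ e⟩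
  choose l hl using hpiece
  haveI := Fintype.ofFinite s
  let L₀ : List (NumTau.Fam k X) := (Finset.univ : Finset s).toList.flatMap l
  refine ⟨L₀.length, fun i => L₀.get i, fun L hL => ?_⟩
  obtain ⟨t₀, ht₀, he⟩ := hmem L hL
  obtain ⟨U, hU⟩ : ∃ U : s, t₀ (IsLocalRing.closedPoint k) ∈ U.1.1 := by
    have hx : t₀ (IsLocalRing.closedPoint k) ∈ (⊤ : T₀.Opens) := trivial
    rw [hcov] at hx
    obtain ⟨V, hV, hxV⟩ := by simpa only [Opens.mem_iSup, exists_prop] using hx
    exact ⟨⟨V, hV⟩, hxV⟩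
  obtain ⟨𝔽, h𝔽, hm⟩ := hl U t₀ ht₀ L hU (hinv L hL) he
  obtain ⟨i, hi⟩ := List.get_of_mem (List.mem_flatMap.2 ⟨U, Finset.mem_toList.2 (Finset.mem_univ U), h𝔽⟩)
  exact ⟨i, show (L₀.get i).Mem L from (show L₀.get i = 𝔽 from hi).symm ▸ hm⟩

end Groth.Agent.ThmA

end
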