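import Groth.Agent.ThmA.Main
import Groth.Agent.ThmA.Families
import Groth.Agent.NumTau.Proper
import Groth.Agent.NumTau.Bounded

/-!
# Consequences: boundedness and finiteness for numerical triviality on proper schemes
-/

set_option autoImplicit false
set_option linter.style.haveILetI false
set_option linter.unusedSectionVars false
set_option backward.isDefEq.respectTransparency false
set_option backward.isDefEq.respectTransparency.types false
set_option maxHeartbeats 1000000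
attribute [-instance] CategoryTheory.catToReflQuiver

universe u

open CategoryTheory CategoryTheory.Limits AlgebraicGeometry TopologicalSpace Opposite
open Groth.Agent.H23.PicMul

noncomputable section

namespace Groth.Agent.ThmA

open Groth.Agent

variable {k : Type u} [Field k] {X : Scheme.{u}} [X.Over (Spec (CommRingCat.of k))]
  [IsProper (X ↘ Spec (CommRingCat.of k))]

theorem nt_congr {L L' : X.Modules} (h : PicF.cl L = PicF.cl L') (hL : NumTau.NT k L) : NumTau.NT k L' := by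
  obtain ⟨hi, hn, M, hM, hnM, e⟩ := hL
  exact ⟨H23.PicMul.isInvertible_of_iso (cl_eq_iff.1 h).some hi, Big.nef_of_cl k h hn, M, hM, hnM, h ▸ e⟩

/-- A class with a numerically trivial positive power is numerically trivial. -/
theorem nt_of_pow {L : X.Modules} (hL : PicF.IsInvertible L) {n : ℕ} (hn : 0 < n)
    (h : NumTau.NT k (CohB1.tensorPow L n)) : NumTau.NT k L := by
  refine NumTau.nt_of_numEquivZero hL (NumTau.numEquivZero_of_cdeg hL fun Y ι _ hY hd => ?_)
  have hlin : ∀ m : ℕ, Big.cdeg k ι (CohB1.tensorPow L m) = (m : ℚ) * Big.cdeg k ι L := fun m => by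
    induction m with
    | zero =>
      rw [Nat.cast_zero, zero_mul]
      show Big.cdeg k ι (Coh.structureModule X) = 0
      have h := Big.cdeg_add k ι hd.le (CurveDeg.isInvertible_structureModule (X := X))
        (CurveDeg.isInvertible_structureModule (X := X))
      rw [Big.cdeg_congr k ι (L' := Coh.structureModule X) (by rw [cl_tensor, ← H23.PicMul.one_def, one_mul])] at h
      linarith
    | succ m ih =>
      rw [show CohB1.tensorPow L (m + 1) = CohB1.tensorMod (CohB1.tensorPow L m) L from rfl,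
        Big.cdeg_add k ι hd.le (InvX.isInvertible_tensorPow hL m) hL, ih]
      push_cast
      ring
  have h0 := hlin n
  rw [NumTau.numTriv_of_nt k h Y ι hY hd] at h0
  rcases mul_eq_zero.1 h0.symm with h1 | h1
  · exact absurd (Nat.cast_eq_zero.1 h1) (by omega)
  · exact h1

/-- Finitely many numerical classes are pulled back from finitely many. -/
theorem exists_reps_of_reflect {Y : Scheme.{u}} [Y.Over (Spec (CommRingCat.of k))]
    [IsProper (Y ↘ Spec (CommRingCat.of k))] {Q : X.Modules → Prop} (hQ : ∀ M, Q M → PicF.IsInvertible M)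
    (Φ : X.Modules → Y.Modules)
    (hmul : ∀ A B, PicF.cl (Φ (CohB1.tensorMod A B)) = PicF.cl (Φ A) * PicF.cl (Φ B))
    (hcongr : ∀ A B, PicF.cl A = PicF.cl B → PicF.cl (Φ A) = PicF.cl (Φ B))
    (hinvΦ : ∀ A, PicF.IsInvertible A → PicF.IsInvertible (Φ A))
    (hrefl : ∀ E, PicF.IsInvertible E → NumTau.NT k (Φ E) → NumTau.NT k E)
    {q : ℕ} (R : Fin q → Y.Modules)
    (h : ∀ M, Q M → ∃ (j : Fin q) (D : Y.Modules), NumTau.NT k D ∧ PicF.cl (Φ M) = PicF.cl (R j) * PicF.cl D) :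
    ∃ (q' : ℕ) (R' : Fin q' → X.Modules), (∀ j, PicF.IsInvertible (R' j)) ∧ ∀ M, Q M →
      ∃ (j : Fin q') (D : X.Modules), NumTau.NT k D ∧ PicF.cl M = PicF.cl (R' j) * PicF.cl D := by
  classical
  let S := {j : Fin q // ∃ M, Q M ∧ ∃ D, NumTau.NT k D ∧ PicF.cl (Φ M) = PicF.cl (R j) * PicF.cl D}
  obtain ⟨q', ⟨e⟩⟩ := Finite.exists_equiv_fin S
  choose M₀ hM₀ D₀ hD₀ hMD₀ using fun s : S => s.2
  refine ⟨q', fun l => M₀ (e.symm l), fun l => hQ _ (hM₀ _), fun M hM => ?_⟩
  obtain ⟨j, D, hD, hMD⟩ := h M hM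
  let s : S := ⟨j, M, hM, D, hD, hMD⟩
  obtain ⟨N, hN, ⟨φ⟩⟩ := H23.PicInv.exists_inverse (hQ _ (hM₀ s))
  have hN1 : PicF.cl (M₀ s) * PicF.cl N = 1 := NumTau.cl_mul_one_of_iso ⟨φ⟩
  obtain ⟨D', hD', hDD'⟩ := (hD₀ s).inv
  have hE : PicF.IsInvertible (CohB1.tensorMod M N) := InvX.isInvertible_tensorMod (hQ M hM) hN
  have hMN : PicF.cl (CohB1.tensorMod (CohB1.tensorMod M N) (M₀ s)) = PicF.cl M := by
    rw [cl_tensor, cl_tensor, mul_assoc, mul_comm (PicF.cl N), hN1, mul_one]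
  have hu : IsUnit (PicF.cl (R j)) := by
    have h1 := H23.PicMul.isUnit_cl (hinvΦ M (hQ M hM))
    rw [hMD] at h1
    exact isUnit_of_mul_isUnit_left h1
  have hkey : PicF.cl (Φ (CohB1.tensorMod M N)) * PicF.cl (D₀ s) = PicF.cl D := hu.mul_left_cancel <| by
    calc PicF.cl (R j) * (PicF.cl (Φ (CohB1.tensorMod M N)) * PicF.cl (D₀ s))
        = PicF.cl (Φ (CohB1.tensorMod M N)) * (PicF.cl (R j) * PicF.cl (D₀ s)) := by ac_rfl
      _ = _ := by rw [← hMD₀ s, ← hmul, hcongr _ _ hMN, hMD]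
  refine ⟨e s, CohB1.tensorMod M N, hrefl _ hE (nt_congr ?_ (hD.mul hD')), ?_⟩
  · rw [cl_tensor, ← hkey, mul_assoc, hDD', mul_one]
  · show PicF.cl M = PicF.cl (M₀ (e.symm (e s))) * PicF.cl (CohB1.tensorMod M N)
    rw [e.symm_apply_apply, cl_tensor, mul_comm (PicF.cl M), ← mul_assoc, hN1, one_mul]

/-- Pull back of a bounded family is bounded. -/
theorem isBounded_pullback {Y : Scheme.{u}} [Y.Over (Spec (CommRingCat.of k))]
    [IsProper (Y ↘ Spec (CommRingCat.of k))]
    (g : Y ⟶ X) (hg : g ≫ (X ↘ Spec (CommRingCat.of k)) = Y ↘ Spec (CommRingCat.of k))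
    {P : X.Modules → Prop} (hP : Pic13.IsBounded k X P) :
    Pic13.IsBounded k Y (fun M => ∃ L, P L ∧ Nonempty ((Scheme.Modules.pullback g).obj L ≅ M)) := by
  obtain ⟨T, q, hq, hqc, F, hF, hmem⟩ := hP
  haveI := hq; haveI := hqc
  haveI : IsLocallyNoetherian (Pic13.prodK k Y q) := by
    haveI : IsLocallyNoetherian T := LocallyOfFiniteType.isLocallyNoetherian q
    exact LocallyOfFiniteType.isLocallyNoetherian (pullback.snd (Y ↘ Spec (CommRingCat.of k)) q)
  let m : Pic13.prodK k Y q ⟶ Pic13.prodK k X q :=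
    pullback.map _ _ _ _ g (𝟙 T) (𝟙 _) (by simp [hg]) (by simp)
  refine ⟨T, q, hq, hqc, (Scheme.Modules.pullback m).obj F, ZClosLib.isCoh_pullback _ hF,
    fun M ⟨L, hL, ⟨eM⟩⟩ => ?_⟩
  obtain ⟨t, ht, ⟨e⟩⟩ := hmem L hL
  have hs : Pic13.sliceAt k Y q t ht ≫ m = g ≫ Pic13.sliceAt k X q t ht := by
    apply pullback.hom_ext
    · simp [Pic13.sliceAt, m]
      exact Category.id_comp g
    · simp [Pic13.sliceAt, m, reassoc_of% hg]
  exact ⟨t, ht, ⟨(Scheme.Modules.pullbackComp _ m).app F ≪≫ (Scheme.Modules.pullbackCongr hs).app F ≪≫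
    ((Scheme.Modules.pullbackComp g _).app F).symm ≪≫ (Scheme.Modules.pullback g).mapIso e ≪≫ eM⟩⟩

variable [IsAlgClosed k]

/-- Numerically trivial classes on a proper scheme form a bounded family. -/
theorem isBounded_nt_proper : Pic13.IsBounded k X (fun L => NumTau.NT k L) := by
  refine isBounded_of_num (fun _ h => h.1) fun X' _ _ p hp H hH =>
    ⟨1, fun _ => Coh.structureModule X', fun _ => CurveDeg.isInvertible_structureModule, fun L hL => ?_⟩
  exact ⟨0, _, NumTau.NT.pullback p hp hL, by rw [← H23.PicMul.one_def, one_mul]⟩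

theorem exists_families_nt_proper :
    ∃ (N : ℕ) (𝔽 : Fin N → NumTau.Fam k X), ∀ L, NumTau.NT k L → ∃ j, (𝔽 j).Mem L :=
  exists_families_proper (fun _ h => h.1) isBounded_nt_proper

theorem nt_of_tau {L : X.Modules} (hL : PicF.IsInvertible L) (h : Pic13.IsTauEquivZero k X L) :
    NumTau.NT k L :=
  NumTau.nt_of_numEquivZero hL (S4278.result k X L hL h)

/-- On a proper scheme numerically trivial classes are τ-equivalent to zero. -/
theorem isTauEquivZero_of_nt_proper {L : X.Modules} (hL : NumTau.NT k L) : Pic13.IsTauEquivZero k X L := by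
  obtain ⟨N, 𝔽, h𝔽⟩ := exists_families_nt_proper (k := k) (X := X)
  choose j hj using fun m : ℕ => h𝔽 _ (hL.pow m)
  obtain ⟨a, b, hab, hjab⟩ : ∃ a b, a < b ∧ j a = j b := by
    obtain ⟨a, b, hne, hab⟩ := Finite.exists_ne_map_eq_of_infinite j
    rcases Nat.lt_or_ge a b with h | h
    · exact ⟨a, b, h, hab⟩
    · exact ⟨b, a, lt_of_le_of_ne h (Ne.symm hne), hab.symm⟩
  obtain ⟨L', hL', hLL'⟩ := hL.inv
  have hpow : PicF.cl (CohB1.tensorPow L a) * PicF.cl (CohB1.tensorPow L' a) = 1 := by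
    rw [cl_tensorPow, cl_tensorPow, ← mul_pow, hLL', one_pow]
  refine ⟨b - a, by omega, NumTau.isAlgEquivZero_congr ?_
    ((𝔽 (j b)).algEquiv (hj b) (hjab ▸ hj a) (InvX.isInvertible_tensorPow hL'.1 a) hpow)⟩
  rw [cl_tensor, cl_tensorPow L (b - a), cl_tensorPow L b]
  conv_lhs => rw [show b = (b - a) + a by omega, pow_add]
  rw [mul_assoc, ← cl_tensorPow L a, hpow, mul_one]

/-- The τ-trivial classes modulo algebraic equivalence form a finite set. -/
theorem exists_finite_reps_proper :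
    ∃ (q : ℕ) (M : Fin q → X.Modules), ∀ L, NumTau.NT k L →
      ∃ (j : Fin q) (N : X.Modules), PicF.IsInvertible N ∧ Pic13.IsAlgEquivZero k X N ∧
        Nonempty (L ≅ CohB1.tensorMod (M j) N) := by
  classical
  obtain ⟨N, 𝔽, h𝔽⟩ := exists_families_nt_proper (k := k) (X := X)
  let S := {j : Fin N // ∃ L, NumTau.NT k L ∧ (𝔽 j).Mem L}
  obtain ⟨q, ⟨e⟩⟩ := Finite.exists_equiv_fin S
  choose M hM hMm using fun s : S => s.2
  refine ⟨q, fun l => M (e.symm l), fun L hL => ?_⟩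
  obtain ⟨j, hj⟩ := h𝔽 L hL
  let s : S := ⟨j, L, hL, hj⟩
  obtain ⟨M', hM', hMM'⟩ := (hM s).inv
  refine ⟨e s, CohB1.tensorMod L M', (hL.mul hM').1, (𝔽 j).algEquiv hj (hMm s) hM'.1 hMM', cl_eq_iff.1 ?_⟩
  show PicF.cl L = PicF.cl (CohB1.tensorMod (M (e.symm (e s))) (CohB1.tensorMod L M'))
  rw [e.symm_apply_apply, cl_tensor, cl_tensor, mul_comm (PicF.cl L), ← mul_assoc, hMM', one_mul]

/-- The invertible modules whose pull back along a surjection lies in a bounded family are bounded. -/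
theorem isBounded_preimage {Y : Scheme.{u}} [Y.Over (Spec (CommRingCat.of k))]
    [IsProper (Y ↘ Spec (CommRingCat.of k))]
    (f : Y ⟶ X) (hf : f ≫ (X ↘ Spec (CommRingCat.of k)) = Y ↘ Spec (CommRingCat.of k)) [Surjective f]
    {P : Y.Modules → Prop} (hP : Pic13.IsBounded k Y P) :
    Pic13.IsBounded k X
      (fun M => PicF.IsInvertible M ∧ ∃ L, P L ∧ Nonempty ((Scheme.Modules.pullback f).obj M ≅ L)) := by
  refine isBounded_of_num (fun _ h => h.1) fun X' _ _ p hp H hH => ?_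
  let Z := pullback f p
  let a : Z ⟶ Y := pullback.fst f p
  let b : Z ⟶ X' := pullback.snd f p
  letI : Z.Over (Spec (CommRingCat.of k)) := ⟨b ≫ X' ↘ Spec (CommRingCat.of k)⟩
  haveI : IsProper (f ≫ (X ↘ Spec (CommRingCat.of k))) := by rw [hf]; infer_instance
  haveI : IsProper f := IsProper.of_comp f (X ↘ Spec (CommRingCat.of k))
  haveI : IsProper (Z ↘ Spec (CommRingCat.of k)) := inferInstanceAs (IsProper (b ≫ X' ↘ Spec (CommRingCat.of k)))
  obtain ⟨Z', π, hπ, hπs, A, hA⟩ := NumTau.exists_projective_cover k Z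
  haveI := hπ; haveI := hπs
  letI : Z'.Over (Spec (CommRingCat.of k)) := ⟨π ≫ Z ↘ Spec (CommRingCat.of k)⟩
  haveI : IsProper (Z' ↘ Spec (CommRingCat.of k)) := inferInstanceAs (IsProper (π ≫ Z ↘ Spec (CommRingCat.of k)))
  let u : Z' ⟶ X' := π ≫ b
  let g : Z' ⟶ Y := π ≫ a
  haveI : Surjective b := MorphismProperty.pullback_snd (P := @Surjective) f p inferInstance
  haveI : Surjective u := inferInstanceAs (Surjective (π ≫ b))
  have hu : u ≫ (X' ↘ Spec (CommRingCat.of k)) = Z' ↘ Spec (CommRingCat.of k) := Category.assoc _ _ _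
  have hgu : g ≫ f = u ≫ p := by
    show (π ≫ a) ≫ f = (π ≫ b) ≫ p
    rw [Category.assoc, Category.assoc, show a ≫ f = b ≫ p from pullback.condition]
  have hg : g ≫ (Y ↘ Spec (CommRingCat.of k)) = Z' ↘ Spec (CommRingCat.of k) := by
    rw [← hf, ← Category.assoc, hgu, Category.assoc, hp, hu]
  let P' : Z'.Modules → Prop := fun N =>
    PicF.IsInvertible N ∧ ∃ L, P L ∧ Nonempty ((Scheme.Modules.pullback g).obj L ≅ N)
  have hP' : Pic13.IsBounded k Z' P' :=
    Bdd.isBounded_mono (isBounded_pullback g hg hP) fun N hN => ⟨N, hN.2, ⟨Iso.refl _⟩⟩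
  obtain ⟨q, R, hR, hrep⟩ := NumTau.exists_num_reps (k := k) hA (P := P') (fun _ h => h.1) hP'
  obtain ⟨q', R', hR', hrep'⟩ := exists_reps_of_reflect (k := k) (X := X') (Y := Z')
    (Q := fun N => ∃ M, (PicF.IsInvertible M ∧ ∃ L, P L ∧ Nonempty ((Scheme.Modules.pullback f).obj M ≅ L)) ∧
      N = (Scheme.Modules.pullback p).obj M)
    (by rintro _ ⟨M, ⟨hM, -⟩, rfl⟩; exact PicClLib.isInvertible_pullback p hM)
    (fun E => (Scheme.Modules.pullback u).obj E)
    (fun A B => by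
      show PicF.pullCl u (PicF.cl (CohB1.tensorMod A B)) = PicF.pullCl u (PicF.cl A) * PicF.pullCl u (PicF.cl B)
      rw [cl_tensor, pullCl_mul])
    (fun A B h => congrArg (PicF.pullCl u) h)
    (fun _ h => PicClLib.isInvertible_pullback u h)
    (fun E hE h => NumTau.NT.of_surjective u hu hE h) R
    (by
      rintro _ ⟨M, ⟨hM, L, hL, ⟨e⟩⟩, rfl⟩
      exact hrep _ ⟨PicClLib.isInvertible_pullback u (PicClLib.isInvertible_pullback p hM), L, hL,
        ⟨((Scheme.Modules.pullback g).mapIso e).symm ≪≫ (Scheme.Modules.pullbackComp g f).app M ≪≫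
          (Scheme.Modules.pullbackCongr hgu).app M ≪≫ ((Scheme.Modules.pullbackComp u p).app M).symm⟩⟩)
  exact ⟨q', R', hR', fun M hM => hrep' _ ⟨M, hM, rfl⟩⟩

/-- The roots of a bounded family are bounded. -/
theorem isBounded_roots {n : ℕ} (hn : 0 < n) {P : X.Modules → Prop} (hP : Pic13.IsBounded k X P) :
    Pic13.IsBounded k X
      (fun M => PicF.IsInvertible M ∧ ∃ L, P L ∧ Nonempty (CohB1.tensorPow M n ≅ L)) := by
  refine isBounded_of_num (fun _ h => h.1) fun X' _ _ p hp H hH => ?_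
  let P' : X'.Modules → Prop := fun N =>
    PicF.IsInvertible N ∧ ∃ L, P L ∧ Nonempty ((Scheme.Modules.pullback p).obj L ≅ N)
  have hP' : Pic13.IsBounded k X' P' :=
    Bdd.isBounded_mono (isBounded_pullback p hp hP) fun N hN => ⟨N, hN.2, ⟨Iso.refl _⟩⟩
  obtain ⟨q, R, hR, hrep⟩ := NumTau.exists_num_reps (k := k) hH (P := P') (fun _ h => h.1) hP'
  obtain ⟨q', R', hR', hrep'⟩ := exists_reps_of_reflect (k := k) (X := X') (Y := X')
    (Q := fun N => ∃ M, (PicF.IsInvertible M ∧ ∃ L, P L ∧ Nonempty (CohB1.tensorPow M n ≅ L)) ∧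
      N = (Scheme.Modules.pullback p).obj M)
    (by rintro _ ⟨M, ⟨hM, -⟩, rfl⟩; exact PicClLib.isInvertible_pullback p hM)
    (fun E => CohB1.tensorPow E n)
    (fun A B => by rw [cl_tensorPow, cl_tensorPow, cl_tensorPow, cl_tensor, mul_pow])
    (fun A B h => by rw [cl_tensorPow, cl_tensorPow, h])
    (fun _ h => InvX.isInvertible_tensorPow h n)
    (fun E hE h => nt_of_pow hE hn h) R
    (by
      rintro _ ⟨M, ⟨hM, L, hL, ⟨e⟩⟩, rfl⟩
      refine hrep _ ⟨InvX.isInvertible_tensorPow (PicClLib.isInvertible_pullback p hM) n, L, hL, cl_eq_iff.1 ?_⟩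
      rw [cl_tensorPow, show PicF.cl ((Scheme.Modules.pullback p).obj M) = PicF.pullCl p (PicF.cl M) from rfl,
        ← H23.PicMul.pullCl_pow, ← cl_tensorPow, cl_eq_iff.2 ⟨e⟩]
      rfl)
  exact ⟨q', R', hR', fun M hM => hrep' _ ⟨M, hM, rfl⟩⟩

end Groth.Agent.ThmA

end
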