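import Groth.Agent.FibFlatMod.Coker
import Groth.Agent.H23.GysinPb
import Groth.Agent.KFlatLib.Scheme.Exact
import Groth.Agent.KFlatLib.Scheme.Pullback
import Groth.Prelude.Def_Pic13

/-!
# Injections with flat cokernel stay injective on a rational fibre
-/

set_option autoImplicit false
set_option linter.style.haveILetI false
set_option linter.unusedSectionVars false
set_option backward.isDefEq.respectTransparency false
set_option backward.isDefEq.respectTransparency.types false
set_option maxHeartbeats 800000
attribute [-instance] CategoryTheory.catToReflQuiver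

universe u

open CategoryTheory CategoryTheory.Limits AlgebraicGeometry TopologicalSpace Opposite IsLocalRing TensorProduct ZeroObject

noncomputable section

namespace Groth.Agent.ThmA

open Groth.Agent

variable {W T : Scheme.{u}}

theorem mono_iff_stalk {M N : W.Modules} (c : M ⟶ N) :
    Mono c ↔ ∀ x, Function.Injective ((DerSch.stalkFunctor W x).map c) := by
  refine ⟨fun _ x => (ModuleCat.mono_iff_injective _).1 inferInstance, fun h => ?_⟩
  let S := ShortComplex.mk (0 : (0 : W.Modules) ⟶ M) c zero_comp
  have hS : S.Exact := by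
    rw [KFlatLib.exact_iff_stalk]
    intro x
    have : Mono ((S.map (DerSch.stalkFunctor W x)).g) := (ModuleCat.mono_iff_injective _).mpr (h x)
    exact (ShortComplex.exact_iff_mono _ ((DerSch.stalkFunctor W x).map_zero _ _)).mpr this
  exact (S.exact_iff_mono rfl).mp hS

theorem lTensor_injective_of_smul {A B I C : Type u} [CommRing A] [CommRing B] [Algebra A B]
    [AddCommGroup I] [Module A I] [AddCommGroup C] [Module A C]
    (hs : Function.Surjective (algebraMap A B)) (g : I →ₗ[A] C)
    (h : ∀ m, g m ∈ RingHom.ker (algebraMap A B) • (⊤ : Submodule A C) →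
      m ∈ RingHom.ker (algebraMap A B) • (⊤ : Submodule A I)) :
    Function.Injective (g.lTensor B) := by
  have hker : ∀ (M : Type u) [AddCommGroup M] [Module A M] (m : M),
      (1 : B) ⊗ₜ[A] m = 0 ↔ m ∈ RingHom.ker (algebraMap A B) • (⊤ : Submodule A M) := fun M _ _ m => by
    let e : (A ⧸ RingHom.ker (algebraMap A B)) ≃ₗ[A] B :=
      (Algebra.linearMap A B).quotKerEquivOfSurjective hs
    let E := (TensorProduct.congr e (LinearEquiv.refl A M)).symm.trans
      (TensorProduct.quotTensorEquivQuotSMul M (RingHom.ker (algebraMap A B)))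
    rw [← Submodule.Quotient.mk_eq_zero, ← E.map_eq_zero_iff]
    have h1 : e.symm (1 : B) = Ideal.Quotient.mk _ (1 : A) := e.injective (by
      rw [e.apply_symm_apply]; exact (map_one (algebraMap A B)).symm)
    have h2 : E ((1 : B) ⊗ₜ[A] m) = Submodule.Quotient.mk m := by
      simp only [E, LinearEquiv.trans_apply, TensorProduct.congr_symm_tmul, LinearEquiv.refl_symm,
        LinearEquiv.refl_apply, h1]
      rw [TensorProduct.quotTensorEquivQuotSMul_mk_tmul, one_smul]
    rw [h2]
  refine (injective_iff_map_eq_zero _).2 fun ξ hξ => ?_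
  obtain ⟨m, rfl⟩ := TensorProduct.mk_surjective A I B hs ξ
  exact (hker I m).2 (h m ((hker C (g m)).1 ((LinearMap.lTensor_tmul B g 1 m).symm.trans hξ)))

theorem ker_stalkMap_rational {k : Type u} [Field k] (pr : W ⟶ T) (t : Spec (CommRingCat.of k) ⟶ T)
    [IsClosedImmersion t] (z : (pullback pr t : Scheme.{u})) :
    RingHom.ker ((pullback.fst pr t).stalkMap z).hom =
      (maximalIdeal (T.presheaf.stalk (pr (pullback.fst pr t z)))).map
        (pr.stalkMap (pullback.fst pr t z)).hom := by
  rw [H23.GysinPb.ker_stalkMap_fst]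
  let d := pullback.snd pr t z
  have hk : IsField ((Spec (CommRingCat.of k)).presheaf.stalk d) := by
    rw [Subsingleton.elim d (genericPoint (Spec (CommRingCat.of k)))]
    exact Field.toIsField (Spec (CommRingCat.of k)).functionField
  have hJ : RingHom.ker (t.stalkMap d).hom = maximalIdeal (T.presheaf.stalk (t d)) := by
    refine le_antisymm (le_maximalIdeal (RingHom.ker_ne_top _)) fun a ha => ?_
    rw [RingHom.mem_ker]
    have := (map_mem_nonunits_iff (t.stalkMap d).hom a).2 ha
    by_contra hne
    obtain ⟨b, hb⟩ := hk.mul_inv_cancel hne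
    exact this (IsUnit.of_mul_eq_one b hb)
  rw [hJ, H23.GysinPb.baseMap, CommRingCat.hom_comp, ← Ideal.map_map]
  refine congrArg _ (IsLocalRing.map_maximalIdeal_of_surjective _ ?_)
  haveI : IsIso (T.presheaf.stalkSpecializes (specializes_of_eq (H23.GysinPb.apply_fst_eq pr t z))) :=
    inferInstanceAs (IsIso (T.presheaf.stalkCongr (.of_eq (H23.GysinPb.apply_fst_eq pr t z).symm)).hom)
  exact (ConcreteCategory.bijective_of_isIso
    (T.presheaf.stalkSpecializes (specializes_of_eq (H23.GysinPb.apply_fst_eq pr t z)))).2

/-- A monomorphism with cokernel flat over the base stays one on a rational fibre. -/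
theorem mono_pullback_fst {k : Type u} [Field k] (pr : W ⟶ T) (t : Spec (CommRingCat.of k) ⟶ T)
    [IsClosedImmersion t] {I C : W.Modules} (g : I ⟶ C) [Mono g]
    (hflat : ∀ z, FlatMod.IsFlatOverAt pr (cokernel g) (pullback.fst pr t z)) :
    Mono ((Scheme.Modules.pullback (pullback.fst pr t)).map g) := by
  refine (mono_iff_stalk _).2 fun z => ?_
  let φ := pullback.fst pr t
  let x := φ z
  let A := W.presheaf.stalk x
  let R := T.presheaf.stalk (pr x)
  letI : Algebra R A := (pr.stalkMap x).hom.toAlgebra
  letI : Algebra A ((pullback pr t).presheaf.stalk z) := (φ.stalkMap z).hom.toAlgebra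
  letI := FlatMod.moduleStalkOver pr C x
  letI := FlatMod.moduleStalkOver pr I x
  letI := FlatMod.moduleStalkOver pr (cokernel g) x
  haveI : IsScalarTower R A (C.presheaf.stalk x) := .of_algebraMap_smul fun _ _ => rfl
  haveI : IsScalarTower R A (I.presheaf.stalk x) := .of_algebraMap_smul fun _ _ => rfl
  haveI : IsScalarTower R A ((cokernel g).presheaf.stalk x) := .of_algebraMap_smul fun _ _ => rfl
  haveI : Module.Flat R ((cokernel g).presheaf.stalk x) := hflat z
  obtain ⟨e⟩ := FibFlatMod.nonempty_stalk_cokernel g x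
  haveI : Module.Flat R (C.presheaf.stalk x ⧸ LinearMap.range (FibFlatMod.stalkLin g x)) :=
    Module.Flat.of_linearEquiv (e.restrictScalars R)
  have hinj : Function.Injective (FibFlatMod.stalkLin g x) := (mono_iff_stalk g).1 ‹_› x
  have hker := ker_stalkMap_rational pr t z
  have key : Function.Injective ((FibFlatMod.stalkLin g x).lTensor ((pullback pr t).presheaf.stalk z)) :=
    lTensor_injective_of_smul (φ.stalkMap_surjective z) (FibFlatMod.stalkLin g x) fun m hm => by
      rw [show RingHom.ker (algebraMap A ((pullback pr t).presheaf.stalk z)) =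
        (maximalIdeal R).map (algebraMap R A) from hker] at hm ⊢
      exact FibFlatMod.mem_smul_of_flat_coker (FibFlatMod.stalkLin g x) hinj (maximalIdeal R) m hm
  let ω := KFlatLib.stalkPullbackIso φ z
  let ψ := (ModuleCat.extendScalars (φ.stalkMap z).hom).map ((DerSch.stalkFunctor W x).map g)
  let E : Arrow.mk ((DerSch.stalkFunctor _ z).map ((Scheme.Modules.pullback φ).map g)) ≅ Arrow.mk ψ :=
    ((Functor.mapArrowFunctor _ _).mapIso ω).app (Arrow.mk g)
  exact (ModuleCat.mono_iff_injective _).1 (((MorphismProperty.monomorphisms _).arrow_mk_iso_iff E).2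
    ((ModuleCat.mono_iff_injective ψ).2 key))

/-- The same on the slice at a rational point. -/
theorem mono_pullback_slice {k : Type u} [Field k] {X : Scheme.{u}} [X.Over (Spec (CommRingCat.of k))]
    (q : T ⟶ Spec (CommRingCat.of k)) [IsSeparated q] (t : Spec (CommRingCat.of k) ⟶ T) (ht : t ≫ q = 𝟙 _)
    {I C : (Pic13.prodK k X q).Modules} (g : I ⟶ C) [Mono g]
    (hflat : ∀ x, FlatMod.IsFlatOverAt (pullback.snd (X ↘ Spec (CommRingCat.of k)) q) (cokernel g)
      (Pic13.sliceAt k X q t ht x)) :
    Mono ((Scheme.Modules.pullback (Pic13.sliceAt k X q t ht)).map g) := by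
  haveI : IsClosedImmersion t := by
    haveI : IsClosedImmersion (t ≫ q) := by rw [ht]; infer_instance
    exact IsClosedImmersion.of_comp t q
  have sq : IsPullback (Pic13.sliceAt k X q t ht) (X ↘ Spec (CommRingCat.of k))
      (pullback.snd (X ↘ Spec (CommRingCat.of k)) q) t := by
    refine IsPullback.of_right ?_ (pullback.lift_snd _ _ _) (IsPullback.of_hasPullback _ q)
    have e1 : Pic13.sliceAt k X q t ht ≫ pullback.fst (X ↘ Spec (CommRingCat.of k)) q = 𝟙 X :=
      pullback.lift_fst _ _ _
    rw [e1, ht]
    exact IsPullback.of_horiz_isIso ⟨by rw [Category.id_comp, Category.comp_id]⟩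
  let a := sq.isoPullback
  have ha : a.hom ≫ pullback.fst (pullback.snd (X ↘ Spec (CommRingCat.of k)) q) t = Pic13.sliceAt k X q t ht :=
    sq.isoPullback_hom_fst
  haveI := mono_pullback_fst (pullback.snd (X ↘ Spec (CommRingCat.of k)) q) t g fun z => by
    have h := hflat (a.inv z)
    have hz : Pic13.sliceAt k X q t ht (a.inv z) =
        pullback.fst (pullback.snd (X ↘ Spec (CommRingCat.of k)) q) t z := by
      rw [← ha, ← Scheme.Hom.comp_apply, Iso.inv_hom_id_assoc]
    exact hz ▸ h
  haveI : (Scheme.Modules.pullback a.hom).PreservesMonomorphisms := by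
    haveI : PreservesFiniteLimits (Scheme.Modules.pullback a.hom) := preservesFiniteLimits_of_natIso
      (Scheme.Modules.restrictFunctorIsoPullback a.hom)
    infer_instance
  refine ((MorphismProperty.monomorphisms _).arrow_mk_iso_iff
    (((Functor.mapArrowFunctor _ _).mapIso (Scheme.Modules.pullbackComp a.hom
      (pullback.fst (pullback.snd (X ↘ Spec (CommRingCat.of k)) q) t) ≪≫
      Scheme.Modules.pullbackCongr ha)).app (Arrow.mk g))).1 ?_
  exact inferInstanceAs (Mono ((Scheme.Modules.pullback a.hom).map
    ((Scheme.Modules.pullback (pullback.fst _ t)).map g)))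

end Groth.Agent.ThmA

end
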