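import Groth.Agent.ThmA.QuoSub
import Groth.Agent.QCoh.AnnIdeal
import Groth.Agent.QCoh.DevissageP
import Groth.Agent.AmpleVan.ThickPush
import Groth.Agent.H23.PullPush
import Groth.Agent.S0025
import Groth.Agent.AmpleX.EmbedOverApps
import Groth.Agent.PicGlue.ProjSpaceBC

/-!
# A projective modification of the support of a coherent module
-/

set_option autoImplicit false
set_option linter.style.haveILetI false
set_option linter.unusedSectionVars false
set_option backward.isDefEq.respectTransparency false
set_option backward.isDefEq.respectTransparency.types false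
set_option maxHeartbeats 800000
attribute [-instance] CategoryTheory.catToReflQuiver

universe u

open CategoryTheory CategoryTheory.Limits AlgebraicGeometry TopologicalSpace Opposite

noncomputable section

namespace Groth.Agent.ThmA

open Groth.Agent

theorem isIso_unit_iso {Y Z : Scheme.{u}} (g : Y ⟶ Z) [IsIso g] (M : Z.Modules) :
    IsIso ((Scheme.Modules.pullbackPushforwardAdjunction g).unit.app M) := by
  let A₁ := Scheme.Modules.restrictAdjunction g
  let A₂ := Scheme.Modules.pullbackPushforwardAdjunction g
  have h1 : IsIso (A₁.unit.app M) := Scheme.Modules.Hom.isIso_iff_isIso_app.2 fun U => by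
    rw [Scheme.Modules.restrictAdjunction_unit_app_app]
    have he : g ''ᵁ g ⁻¹ᵁ U = U := by
      refine le_antisymm (g.image_preimage_le U) fun z hz => ?_
      obtain ⟨y, rfl⟩ := g.surjective z
      exact ⟨y, hz, rfl⟩
    rw [show homOfLE (g.image_preimage_le U) = eqToHom he from Subsingleton.elim _ _]
    exact Functor.map_isIso M.presheaf _
  have h2 := Adjunction.unit_leftAdjointUniq_hom_app A₁ A₂ M
  rw [← h2]
  exact IsIso.comp_isIso' h1 inferInstance

/-- Over an open set where the morphism is an isomorphism, the unit is bijective on sections. -/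
theorem bijective_unit_app_of_iso {Y Z : Scheme.{u}} (π : Y ⟶ Z) (U : Z.Opens) [IsIso (π ∣_ U)]
    (M : Z.Modules) {V : Z.Opens} (hV : V ≤ U) :
    Function.Bijective (((Scheme.Modules.pullbackPushforwardAdjunction π).unit.app M).app V) := by
  haveI := H23.PullPush.isIso_restrict_unit π U M (isIso_unit_iso (π ∣_ U) (M.restrict U.ι))
  have h := Scheme.Modules.Hom.isIso_iff_isIso_app.1 (inferInstance :
    IsIso ((Scheme.Modules.restrictFunctor U.ι).map
      ((Scheme.Modules.pullbackPushforwardAdjunction π).unit.app M))) (U.ι ⁻¹ᵁ V)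
  have he : U.ι ''ᵁ U.ι ⁻¹ᵁ V = V := by
    rw [U.ι.image_preimage_eq_opensRange_inf, Scheme.Opens.opensRange_ι, inf_eq_right]
    exact hV
  have h' : IsIso (((Scheme.Modules.pullbackPushforwardAdjunction π).unit.app M).app
      (U.ι ''ᵁ U.ι ⁻¹ᵁ V)) := h
  rw [he] at h'
  exact ConcreteCategory.bijective_of_isIso _

variable {X : Scheme.{u}}

/-- A coherent module receives an isomorphism on the complement of a smaller closed set into the
direct image of a coherent module on a projective scheme. -/
theorem exists_chow_unit (k : Type u) [Field k] [X.Over (Spec (CommRingCat.of k))]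
    [IsProper (X ↘ Spec (CommRingCat.of k))] {G : X.Modules} (hG : Coh.IsCoh G)
    (hne : (CohB1.support G).Nonempty) :
    ∃ (X' : Scheme.{u}) (p : X' ⟶ X) (_ : IsProper p) (_ : ∃ A : X'.Modules, CohB1.IsAmple A)
      (F' : X'.Modules) (ε : G ⟶ (Coh.push p).obj F') (W : Closeds X),
      Coh.IsCoh F' ∧ (W : Set X) ⊂ CohB1.support G ∧
        ∀ V : X.Opens, Disjoint (V : Set X) (W : Set X) → Function.Bijective (ε.app V) := by
  let f := X ↘ Spec (CommRingCat.of k)
  haveI : IsLocallyNoetherian X := LocallyOfFiniteType.isLocallyNoetherian f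
  haveI : CompactSpace X := QuasiCompact.compactSpace_of_compactSpace f
  haveI : IsNoetherian X := {}
  let I := QCoh.annIdeal hG.1 hG.2
  let Z := I.subscheme
  let i : Z ⟶ X := I.subschemeι
  haveI : IsNoetherian (Spec (CommRingCat.of k)) := inferInstance
  haveI : IsProper (i ≫ f) := MorphismProperty.comp_mem @IsProper _ _ inferInstance inferInstance
  obtain ⟨n, X', π, j, hj, hjc, hπ, hs, U, hU, hiso⟩ := S0025.result (i ≫ f)
  haveI := hj; haveI := hπ; haveI := hiso
  haveI : IsProper (j ≫ CohB1.ProjSpaceOver.toBase n (Spec (CommRingCat.of k))) := by rw [hjc]; infer_instance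
  haveI : IsProper j := IsProper.of_comp j (CohB1.ProjSpaceOver.toBase n (Spec (CommRingCat.of k)))
  haveI : IsClosedImmersion j := IsClosedImmersion.of_isPreimmersion j (by
    rw [← Set.image_univ]; exact j.isClosedMap _ isClosed_univ)
  obtain ⟨e, he⟩ := PicGlue.exists_projSpace_iso n k
  letI : X'.Over (Spec (CommRingCat.of k)) := ⟨π ≫ i ≫ f⟩
  obtain ⟨A, hA⟩ := AmpleVan.exists_ample_of_closedImmersion_projSpace (A := k) (j ≫ e.inv)
  have hrange : Set.range i = CohB1.support G := I.range_subschemeι
  haveI hηG : IsIso ((Scheme.Modules.pullbackPushforwardAdjunction i).unit.app G) :=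
    (QCoh.isIso_unit_closed_iff i hG.1).2 fun V a ha s => by
      rw [Scheme.IdealSheafData.ker_subschemeι] at ha
      exact Module.mem_annihilator.1 ha s
  let H := (Scheme.Modules.pullback i).obj G
  haveI : IsLocallyNoetherian Z := LocallyOfFiniteType.isLocallyNoetherian i
  haveI : IsLocallyNoetherian X' := LocallyOfFiniteType.isLocallyNoetherian π
  haveI : IsProper (π ≫ i) := MorphismProperty.comp_mem @IsProper _ _ inferInstance inferInstance
  let F' := (Scheme.Modules.pullback π).obj H
  let ε : G ⟶ (Coh.push (π ≫ i)).obj F' := (Scheme.Modules.pullbackPushforwardAdjunction i).unit.app G ≫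
    (Coh.push i).map ((Scheme.Modules.pullbackPushforwardAdjunction π).unit.app H) ≫
    (Scheme.Modules.pushforwardComp π i).hom.app F'
  refine ⟨X', π ≫ i, inferInstance, ⟨A, hA⟩, F', ε,
    ⟨i '' (U : Set Z)ᶜ, i.isClosedEmbedding.isClosedMap _ U.2.isClosed_compl⟩,
    ZClosLib.isCoh_pullback _ (ZClosLib.isCoh_pullback _ hG), ⟨?_, fun hsub => ?_⟩, fun V hV => ?_⟩
  · rintro _ ⟨z, -, rfl⟩
    exact hrange ▸ ⟨z, rfl⟩
  · obtain ⟨z₀, -⟩ : (Set.univ : Set Z).Nonempty := by
      obtain ⟨x, hx⟩ := hne
      rw [← hrange] at hx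
      obtain ⟨z, -⟩ := hx
      exact ⟨z, trivial⟩
    haveI : Nonempty Z := ⟨z₀⟩
    obtain ⟨z, hz⟩ := hU.nonempty
    obtain ⟨z', hz', hzz⟩ := hsub (show i z ∈ CohB1.support G from hrange ▸ ⟨z, rfl⟩)
    exact hz' (i.isClosedEmbedding.injective hzz ▸ hz)
  · have hiV : i ⁻¹ᵁ V ≤ U := fun z hz => by
      by_contra hzU
      exact Set.disjoint_left.1 hV hz ⟨z, hzU, rfl⟩
    have h1 : Function.Bijective (((Scheme.Modules.pullbackPushforwardAdjunction i).unit.app G).app V) := by
      haveI := Scheme.Modules.Hom.isIso_iff_isIso_app.1 hηG V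
      exact ConcreteCategory.bijective_of_isIso _
    have h2 : Function.Bijective
        (((Coh.push i).map ((Scheme.Modules.pullbackPushforwardAdjunction π).unit.app H)).app V) :=
      bijective_unit_app_of_iso π U H hiV
    have h3 : Function.Bijective (((Scheme.Modules.pushforwardComp π i).hom.app F').app V) := by
      haveI := Scheme.Modules.Hom.isIso_iff_isIso_app.1
        (inferInstance : IsIso ((Scheme.Modules.pushforwardComp π i).hom.app F')) V
      exact ConcreteCategory.bijective_of_isIso _
    exact (h3.comp h2).comp h1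

end Groth.Agent.ThmA

end
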