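import Groth.Agent.ThmA.ChowUnit
import Groth.Agent.QCoh.ArtinRees
import Groth.Agent.QCoh.SubCompare
import Groth.Agent.KFlatLib.Scheme.Exact

/-!
# Gluing a twisted module from a modification and thickenings of the exceptional set
-/

set_option autoImplicit false
set_option linter.style.haveILetI false
set_option linter.unusedSectionVars false
set_option backward.isDefEq.respectTransparency false
set_option backward.isDefEq.respectTransparency.types false
set_option maxHeartbeats 1000000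
attribute [-instance] CategoryTheory.catToReflQuiver

universe u v

open CategoryTheory CategoryTheory.Limits AlgebraicGeometry TopologicalSpace Opposite

noncomputable section

namespace Groth.Agent.ThmA

open Groth.Agent

variable {X : Scheme.{u}}

/-- The restriction to the closed subscheme of an ideal, as a module on `X`. -/
abbrev thick (J : X.IdealSheafData) : X.Modules ⥤ X.Modules :=
  Scheme.Modules.pullback J.subschemeι ⋙ Coh.push J.subschemeι

/-- The restriction map. -/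
abbrev thickπ (J : X.IdealSheafData) (G : X.Modules) : G ⟶ (thick J).obj G :=
  (Scheme.Modules.pullbackPushforwardAdjunction J.subschemeι).unit.app G

theorem thickπ_naturality (J : X.IdealSheafData) {G R : X.Modules} (ε : G ⟶ R) :
    ε ≫ thickπ J R = thickπ J G ≫ (thick J).map ε :=
  (Scheme.Modules.pullbackPushforwardAdjunction J.subschemeι).unit.naturality ε

theorem thickπ_app_eq_zero_iff (J : X.IdealSheafData) {G : X.Modules} (hG : Coh.IsQCoh G) (V : X.affineOpens)
    (x : Γ(G, V.1)) :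
    (thickπ J G).app V.1 x = 0 ↔ x ∈ J.ideal V • (⊤ : Submodule Γ(X, V.1) Γ(G, V.1)) := by
  have h := (QCoh.unit_app_closed J.subschemeι hG V.2).2 x
  rwa [Scheme.IdealSheafData.ker_subschemeι] at h

theorem thickπ_app_surjective (J : X.IdealSheafData) {G : X.Modules} (hG : Coh.IsQCoh G) (V : X.affineOpens) :
    Function.Surjective ((thickπ J G).app V.1) :=
  (QCoh.unit_app_closed J.subschemeι hG V.2).1

theorem isQCoh_thick (J : X.IdealSheafData) {G : X.Modules} (hG : Coh.IsQCoh G) :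
    Coh.IsQCoh ((thick J).obj G) :=
  QCoh.isQCoh_pushforward J.subschemeι (QCoh.isQCoh_pullback J.subschemeι hG)

theorem isCoh_thick [IsNoetherian X] (J : X.IdealSheafData) {G : X.Modules} (hG : Coh.IsCoh G) :
    Coh.IsCoh ((thick J).obj G) := by
  haveI := LocallyOfFiniteType.isLocallyNoetherian J.subschemeι
  exact QCoh.isCoh_push J.subschemeι (ZClosLib.isCoh_pullback _ hG)

theorem support_thick (J : X.IdealSheafData) {G : X.Modules} (hG : Coh.IsQCoh G) :
    CohB1.support ((thick J).obj G) ⊆ (J.support : Set X) := by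
  have h := QCoh.support_push_subset J.subschemeι (QCoh.isQCoh_pullback J.subschemeι hG)
  rwa [Scheme.IdealSheafData.range_subschemeι] at h

theorem epi_thickπ (J : X.IdealSheafData) {G : X.Modules} (hG : Coh.IsQCoh G) : Epi (thickπ J G) := by
  refine Preadditive.epi_of_isZero_cokernel _ ?_
  have hC : Coh.IsQCoh (cokernel (thickπ J G)) := QCoh.isQCoh_cokernel hG (isQCoh_thick J hG) _
  choose U hU hxU using fun x : X => QCoh.exists_affine_mem x
  refine QCoh.isZero_of_cover hC U hU (fun x => ⟨x, hxU x⟩) fun x => subsingleton_of_forall_eq 0 fun c => ?_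
  obtain ⟨y, rfl⟩ := QCoh.app_surjective_of_epi (isQCoh_thick J hG) hC (cokernel.π _) (hU x) c
  obtain ⟨z, rfl⟩ := thickπ_app_surjective J hG ⟨U x, hU x⟩ y
  exact congr(($(cokernel.condition (thickπ J G))).app (U x) z)

/-- The transition between thickenings. -/
theorem exists_trans (J J' : X.IdealSheafData) (h : ∀ V, J'.ideal V ≤ J.ideal V) {G : X.Modules}
    (hG : Coh.IsQCoh G) :
    ∃ τ : (thick J').obj G ⟶ (thick J).obj G, thickπ J' G ≫ τ = thickπ J G := by
  haveI := epi_thickπ J' hG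
  have h0 : kernel.ι (thickπ J' G) ≫ thickπ J G = 0 := by
    refine QCoh.hom_eq_zero_of_affine _ fun V hV x => ?_
    refine (thickπ_app_eq_zero_iff J hG ⟨V, hV⟩ _).2 (Submodule.smul_mono_left (h ⟨V, hV⟩) ?_)
    exact (thickπ_app_eq_zero_iff J' hG ⟨V, hV⟩ _).1 congr(($(kernel.condition (thickπ J' G))).app V x)
  exact ⟨Abelian.epiDesc _ _ h0, Abelian.comp_epiDesc _ _ h0⟩

theorem support_pow_subset (J : X.IdealSheafData) (r : ℕ) :
    ((J ^ r).support : Set X) ⊆ (J.support : Set X) := by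
  rcases r with _ | r
  · intro x hx
    rw [pow_zero, show ((1 : X.IdealSheafData)) = ⊤ from Scheme.IdealSheafData.one_eq_top,
      Scheme.IdealSheafData.support_top] at hx
    exact absurd hx (Set.notMem_empty x)
  · rw [Scheme.IdealSheafData.support_pow_succ]

theorem app_biprod_ext {A B : X.Modules} (V : X.Opens) {s t : Γ(A ⊞ B, V)}
    (h₁ : (biprod.fst : A ⊞ B ⟶ A).app V s = (biprod.fst : A ⊞ B ⟶ A).app V t)
    (h₂ : (biprod.snd : A ⊞ B ⟶ B).app V s = (biprod.snd : A ⊞ B ⟶ B).app V t) : s = t := by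
  have htot : ∀ r : Γ(A ⊞ B, V), r =
      (biprod.inl : A ⟶ A ⊞ B).app V ((biprod.fst : A ⊞ B ⟶ A).app V r) +
      (biprod.inr : B ⟶ A ⊞ B).app V ((biprod.snd : A ⊞ B ⟶ B).app V r) := fun r =>
    (congr(($(biprod.total (X := A) (Y := B))).app V r)).symm
  rw [htot s, htot t, h₁, h₂]

theorem exists_app_eq_of_cokernel_π {G R : X.Modules} (hG : Coh.IsQCoh G) (hR : Coh.IsQCoh R) (ε : G ⟶ R)
    {V : X.Opens} (hV : IsAffineOpen V) (y : Γ(R, V)) (hy : (cokernel.π ε).app V y = 0) :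
    ∃ m, ε.app V m = y := by
  have hI : Coh.IsQCoh (Abelian.image ε) := QCoh.isQCoh_kernel hR (QCoh.isQCoh_cokernel hG hR ε) _
  have hS : (ShortComplex.mk (Abelian.image.ι ε) (cokernel.π ε) (kernel.condition _)).ShortExact :=
    { exact := ShortComplex.exact_of_f_is_kernel _ (kernelIsKernel _) }
  obtain ⟨z, hz⟩ := QCoh.exists_app_f_eq hS V y hy
  obtain ⟨m, rfl⟩ := QCoh.app_surjective_of_epi hG hI (Abelian.factorThruImage ε) hV z
  exact ⟨m, Eq.trans congr(($(Abelian.image.fac ε)).app V m).symm hz⟩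

/-- If `ε : G ⟶ R` is an isomorphism outside `W`, `G` is a split quotient of the part of `R ⊞ Gₙ` that
agrees in `Rₙ`, and embeds in `R ⊞ Gᵣ`. -/
theorem exists_glue [IsNoetherian X] {G R : X.Modules} (hG : Coh.IsCoh G) (hR : Coh.IsCoh R) (ε : G ⟶ R)
    (W : Closeds X) (hloc : ∀ V : X.Opens, Disjoint (V : Set X) (W : Set X) → Function.Bijective (ε.app V)) :
    ∃ (Gr Gn Rn : X.Modules) (η : G ⟶ R ⊞ Gr) (δ : R ⊞ Gn ⟶ Rn) (ψ : kernel δ ⟶ G),
      Mono η ∧ IsSplitEpi ψ ∧
        ∀ N ∈ ({Gr, Gn, Rn} : Set X.Modules), Coh.IsCoh N ∧ CohB1.support N ⊆ (W : Set X) := by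
  classical
  let J := Scheme.IdealSheafData.vanishingIdeal W
  have hJ : (J.support : Set X) = (W : Set X) := Scheme.IdealSheafData.coe_support_vanishingIdeal W
  have hsup : ∀ N : X.Modules, Coh.IsQCoh N →
      (∀ V : X.Opens, IsAffineOpen V → Disjoint (V : Set X) (W : Set X) → ∀ m : Γ(N, V), m = 0) →
      CohB1.support N ⊆ (J.support : Set X) := fun N hN h x hx => by
    rw [hJ]
    by_contra hxW
    obtain ⟨_, ⟨V, hV, rfl⟩, hxV, hVW⟩ :=
      X.isBasis_affineOpens.exists_subset_of_mem_open hxW W.isClosed.isOpen_compl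
    refine (QCoh.notMem_support_iff hN hV hxV).2 (fun m => ⟨1, ?_, ?_⟩) hx
    · rw [Scheme.basicOpen_of_isUnit _ isUnit_one]; exact hxV
    · rw [one_smul]; exact h V hV (Set.disjoint_left.2 fun y hy => hVW hy) m
  have hK : Coh.IsCoh (kernel ε) := QCoh.isCoh_kernel hG hR ε
  have hQ : Coh.IsCoh (cokernel ε) := QCoh.isCoh_cokernel hG.1 hR ε
  have hKs : CohB1.support (kernel ε) ⊆ (J.support : Set X) := hsup _ hK.1 fun V hV hd m =>
    QCoh.app_injective (kernel.ι ε) V ((hloc V hd).1 (by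
      rw [map_zero]
      exact (congr(($(kernel.condition ε)).app V m)).trans (map_zero _).symm))
  have hQs : CohB1.support (cokernel ε) ⊆ (J.support : Set X) := hsup _ hQ.1 fun V hV hd m => by
    obtain ⟨y, rfl⟩ := QCoh.app_surjective_of_epi hR.1 hQ.1 (cokernel.π ε) hV m
    obtain ⟨z, rfl⟩ := (hloc V hd).2 y
    exact congr(($(cokernel.condition ε)).app V z)
  obtain ⟨r, hr⟩ := QCoh.exists_pow_mono hG hK (kernel.ι ε) J hKs
  choose U hU hxU using fun x : X => QCoh.exists_affine_mem x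
  obtain ⟨t, ht⟩ := isCompact_univ.elim_finite_subcover (fun x : X => (U x : Set X))
    (fun x => (U x).2) (fun x _ => Set.mem_iUnion.2 ⟨x, hxU x⟩)
  have hcov : ∀ x : X, ∃ i : t, x ∈ U i.1 := fun x => by
    obtain ⟨y, hy, hxy⟩ := Set.mem_iUnion₂.1 (ht (Set.mem_univ x))
    exact ⟨⟨y, hy⟩, hxy⟩
  choose a ha using fun x : X => QCoh.exists_pow_le_annihilator hQ J hQs ⟨U x, hU x⟩
  obtain ⟨n, hn⟩ : ∃ n : ℕ, n = (r + 1) + t.sup a := ⟨_, rfl⟩
  let Gr := (thick (J ^ r)).obj G
  let Gn := (thick (J ^ n)).obj G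
  let Rn := (thick (J ^ n)).obj R
  let ur : G ⟶ Gr := thickπ (J ^ r) G
  let un : G ⟶ Gn := thickπ (J ^ n) G
  let uR : R ⟶ Rn := thickπ (J ^ n) R
  let εn : Gn ⟶ Rn := (thick (J ^ n)).map ε
  have hnat : ε ≫ uR = un ≫ εn := thickπ_naturality (J ^ n) ε
  obtain ⟨τ, hτ⟩ := exists_trans (J ^ r) (J ^ n) (fun V => by
    rw [Scheme.IdealSheafData.ideal_pow, Scheme.IdealSheafData.ideal_pow, Pi.pow_apply, Pi.pow_apply]
    exact Ideal.pow_le_pow_right (by omega)) hG.1
  obtain ⟨η, hη₁, hη₂⟩ : ∃ η : G ⟶ R ⊞ Gr, η ≫ biprod.fst = ε ∧ η ≫ biprod.snd = ur :=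
    ⟨biprod.lift ε ur, biprod.lift_fst _ _, biprod.lift_snd _ _⟩
  let δ : R ⊞ Gn ⟶ Rn := biprod.desc uR (-εn)
  obtain ⟨θ, hθ₁, hθ₂⟩ : ∃ θ : kernel δ ⟶ R ⊞ Gr, θ ≫ biprod.fst = kernel.ι δ ≫ biprod.fst ∧
      θ ≫ biprod.snd = kernel.ι δ ≫ biprod.snd ≫ τ :=
    ⟨kernel.ι δ ≫ biprod.map (𝟙 R) τ, by simp, by simp⟩
  have hm : Mono η := by
    refine Preadditive.mono_of_kernel_zero ?_
    have h1 : kernel.ι η ≫ ε = 0 := by
      rw [← hη₁, kernel.condition_assoc, zero_comp]
    have h2 : kernel.lift ε (kernel.ι η) h1 ≫ (kernel.ι ε ≫ ur) = 0 := by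
      rw [kernel.lift_ι_assoc]
      rw [← hη₂, kernel.condition_assoc, zero_comp]
    haveI : Mono (kernel.ι ε ≫ ur) := hr
    rw [← kernel.lift_ι ε (kernel.ι η) h1, zero_of_comp_mono (kernel.ι ε ≫ ur) h2, zero_comp]
  haveI := hm
  have hq : ∀ {A B : X.Modules}, Coh.IsCoh A → Coh.IsCoh B → Coh.IsQCoh (A ⊞ B) :=
    fun hA hB => (Bdd.isCoh_biprod hA hB).1
  have hGr := isCoh_thick (J ^ r) hG
  have hGn := isCoh_thick (J ^ n) hG
  have hRn := isCoh_thick (J ^ n) hR
  have hθ : θ ≫ cokernel.π η = 0 := by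
    refine QCoh.hom_eq_zero_of_cover (QCoh.isQCoh_kernel (hq hR hGn) hRn.1 δ)
      (QCoh.isQCoh_cokernel hG.1 (hq hR hGr) η) _ (fun i : t => U i.1) (fun i => hU i.1) hcov fun i d => ?_
    let V : X.affineOpens := ⟨U i.1, hU i.1⟩
    let x : Γ(R, V.1) := (kernel.ι δ ≫ biprod.fst).app V.1 d
    let g : Γ(Gn, V.1) := (kernel.ι δ ≫ biprod.snd).app V.1 d
    obtain ⟨b, hb⟩ := thickπ_app_surjective (J ^ n) hG.1 V g
    have hrel : kernel.ι δ ≫ biprod.fst ≫ uR = kernel.ι δ ≫ biprod.snd ≫ εn := by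
      rw [← sub_eq_zero, ← Preadditive.comp_sub]
      refine Eq.trans ?_ (kernel.condition δ)
      congr 1
      simp [δ, biprod.desc_eq, sub_eq_add_neg]
    have h0 : uR.app V.1 (x - ε.app V.1 b) = 0 := by
      rw [map_sub, sub_eq_zero]
      refine (congr(($hrel).app V.1 d)).trans ?_
      refine Eq.trans ?_ (congr(($hnat).app V.1 b)).symm
      exact congrArg (εn.app V.1) hb.symm
    have hmem := (thickπ_app_eq_zero_iff (J ^ n) hR.1 V _).1 h0
    rw [Scheme.IdealSheafData.ideal_pow, Pi.pow_apply,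
      hn, pow_add, Submodule.mul_smul] at hmem
    let εl : Γ(G, V.1) →ₗ[Γ(X, V.1)] Γ(R, V.1) :=
      { toFun := ε.app V.1
        map_add' := map_add _
        map_smul' := Scheme.Modules.Hom.app_smul ε }
    have hle : J.ideal V ^ t.sup a • (⊤ : Submodule Γ(X, V.1) Γ(R, V.1)) ≤ LinearMap.range εl := by
      refine Submodule.smul_le.2 fun c hc y _ => ?_
      obtain ⟨m, hm⟩ := exists_app_eq_of_cokernel_π hG.1 hR.1 ε V.2 (c • y) (by
        rw [Scheme.Modules.Hom.app_smul]
        exact Module.mem_annihilator.1 (ha i.1 (Ideal.pow_le_pow_right (Finset.le_sup i.2) hc)) _)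
      exact ⟨m, hm⟩
    have hmem' : x - ε.app V.1 b ∈
        Submodule.map εl (J.ideal V ^ (r + 1) • (⊤ : Submodule Γ(X, V.1) Γ(G, V.1))) := by
      rw [Submodule.map_smul'', Submodule.map_top]
      exact smul_mono_right _ hle hmem
    obtain ⟨j, hj, hje⟩ := hmem'
    have hjr : ur.app V.1 j = 0 := by
      refine (thickπ_app_eq_zero_iff (J ^ r) hG.1 V j).2 ?_
      rw [Scheme.IdealSheafData.ideal_pow, Pi.pow_apply]
      exact Submodule.smul_mono_left (Ideal.pow_le_pow_right (Nat.le_succ r)) hj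
    have hsum : θ.app V.1 d = η.app V.1 (b + j) := by
      refine app_biprod_ext V.1 ?_ ?_
      · refine (congr(($hθ₁).app V.1 d)).trans (Eq.trans ?_ (congr(($hη₁).app V.1 (b + j))).symm)
        show x = ε.app V.1 (b + j)
        rw [map_add]
        show x = ε.app V.1 b + εl j
        rw [hje, add_sub_cancel]
      · refine (congr(($hθ₂).app V.1 d)).trans (Eq.trans ?_ (congr(($hη₂).app V.1 (b + j))).symm)
        show τ.app V.1 g = ur.app V.1 (b + j)
        rw [map_add, hjr, add_zero]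
        exact (congrArg (τ.app V.1) hb.symm).trans (congr(($hτ).app V.1 b))
    refine (congrArg ((cokernel.π η).app V.1) hsum).trans ?_
    exact congr(($(cokernel.condition η)).app V.1 (b + j))
  let ψ : kernel δ ⟶ G := Abelian.monoLift η θ hθ
  let ι₀ : G ⟶ kernel δ := kernel.lift δ (biprod.lift ε un) (by
    simp [δ, biprod.lift_desc, Preadditive.comp_neg, hnat])
  refine ⟨Gr, Gn, Rn, η, δ, ψ, hm, ⟨⟨⟨ι₀, ?_⟩⟩⟩, ?_⟩
  · rw [← cancel_mono η, Category.assoc, Abelian.monoLift_comp, Category.id_comp]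
    apply biprod.hom_ext
    · rw [Category.assoc, hθ₁, hη₁, kernel.lift_ι_assoc, biprod.lift_fst]
    · rw [Category.assoc, hθ₂, hη₂, kernel.lift_ι_assoc, biprod.lift_snd_assoc, hτ]
  · rintro N (rfl | rfl | rfl)
    · exact ⟨hGr, hJ ▸ (support_thick _ hG.1).trans (support_pow_subset J r)⟩
    · exact ⟨hGn, hJ ▸ (support_thick _ hG.1).trans (support_pow_subset J n)⟩
    · exact ⟨hRn, hJ ▸ (support_thick _ hR.1).trans (support_pow_subset J n)⟩

end Groth.Agent.ThmA

end
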