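import Groth.Agent.ThmA.Presented
import Groth.Agent.ThmA.FlatMono
import Groth.Agent.Bdd.Union
import Groth.Agent.ExtShX.LinearHom
import Groth.Agent.SheafHomX.Coherent
import Groth.Agent.S0002
import Groth.Agent.S4698
import Mathlib.RingTheory.Polynomial.Basic

/-!
# Kernels of maps between two fixed coherent modules are quotients of one coherent module
-/

set_option autoImplicit false
set_option linter.style.haveILetI false
set_option linter.unusedSectionVars false
set_option backward.isDefEq.respectTransparency false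
set_option backward.isDefEq.respectTransparency.types false
set_option maxHeartbeats 1000000
attribute [-instance] CategoryTheory.catToReflQuiver
attribute [local instance] Groth.Agent.QCoh.hasFiniteBiproducts

universe u

open CategoryTheory CategoryTheory.Limits AlgebraicGeometry TopologicalSpace Opposite

noncomputable section

namespace Groth.Agent.ThmA

open Groth.Agent

variable {X : Scheme.{u}}

section

variable {k : Type u} [Field k] [X.Over (Spec (CommRingCat.of k))]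

theorem smul_eq_comp_smulHom {M N : X.Modules} (c : k) (φ : M ⟶ N) :
    c • φ = φ ≫ LCZLib.smulHom (Coh.toGlobal (X ↘ Spec (CommRingCat.of k)) c) N := by
  refine Eq.trans (show c • φ = Formal.smulMod k M c ≫ φ from rfl) ((KLin.comp_smulModΓ φ _).symm.trans ?_)
  rfl

variable [IsProper (X ↘ Spec (CommRingCat.of k))]

/-- Homomorphisms between coherent modules are combinations of finitely many. -/
theorem exists_spanning {B C : X.Modules} (hB : Coh.IsCoh B) (hC : Coh.IsCoh C) :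
    ∃ (r : ℕ) (φ : Fin r → (B ⟶ C)), ∀ ψ : B ⟶ C, ∃ a : Fin r → k, Bdd.comb φ a = ψ := by
  haveI : IsLocallyNoetherian X := LocallyOfFiniteType.isLocallyNoetherian (X ↘ Spec (CommRingCat.of k))
  haveI := S0002.result k X _ (SheafHomX.isCoh_hom hB hC) 0
  obtain ⟨e₀⟩ := ExtShX.exists_hom_HH0 (A := k) ((SheafHomX.hom B).obj C)
  haveI : Module.Finite k (B ⟶ C) := Module.Finite.equiv (e₀.symm.trans (ExtShX.evLin B C))
  obtain ⟨r, φ, hφ⟩ := Module.Finite.exists_fin (R := k) (M := (B ⟶ C))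
  refine ⟨r, φ, fun ψ => ?_⟩
  have hψ : ψ ∈ Submodule.span k (Set.range φ) := by rw [hφ]; trivial
  obtain ⟨a, ha⟩ := (Submodule.mem_span_range_iff_exists_fun k).1 hψ
  refine ⟨a, ?_⟩
  rw [← ha]
  exact Finset.sum_congr rfl fun l _ => (smul_eq_comp_smulHom (a l) (φ l)).symm

end

/-- Kernels of all maps between two coherent modules are quotients of one coherent module. -/
theorem exists_quot_kernel (k : Type u) [Field k] [X.Over (Spec (CommRingCat.of k))]
    [IsProper (X ↘ Spec (CommRingCat.of k))] {B C : X.Modules} (hB : Coh.IsCoh B) (hC : Coh.IsCoh C) :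
    ∃ B₀ : X.Modules, Coh.IsCoh B₀ ∧ ∀ ψ : B ⟶ C, ∃ g : B₀ ⟶ kernel ψ, Epi g := by
  classical
  let f := X ↘ Spec (CommRingCat.of k)
  haveI : IsLocallyNoetherian X := LocallyOfFiniteType.isLocallyNoetherian f
  haveI : CompactSpace X := QuasiCompact.compactSpace_of_compactSpace f
  haveI : IsNoetherian X := {}
  obtain ⟨r, φ, hφ⟩ := exists_spanning (k := k) hB hC
  let R := MvPolynomial (Fin r) k
  suffices H : ∀ 𝔞 : Ideal R, ∃ B₀ : X.Modules, Coh.IsCoh B₀ ∧ ∀ a : Fin r → k,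
      𝔞 ≤ RingHom.ker (MvPolynomial.eval a) → ∃ g : B₀ ⟶ kernel (Bdd.comb φ a), Epi g by
    obtain ⟨B₀, hB₀, h⟩ := H ⊥
    refine ⟨B₀, hB₀, fun ψ => ?_⟩
    obtain ⟨a, rfl⟩ := hφ ψ
    exact h a bot_le
  intro 𝔞
  induction 𝔞 using WellFoundedGT.induction with
  | _ 𝔞 IH =>
  have join : ∀ (p : Prop) (𝔟₁ 𝔟₂ : Ideal R), 𝔞 < 𝔟₁ → 𝔞 < 𝔟₂ →
      ∃ B₀ : X.Modules, Coh.IsCoh B₀ ∧ ∀ a : Fin r → k,
        (𝔟₁ ≤ RingHom.ker (MvPolynomial.eval a) ∨ 𝔟₂ ≤ RingHom.ker (MvPolynomial.eval a)) →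
          ∃ g : B₀ ⟶ kernel (Bdd.comb φ a), Epi g := by
    intro _ 𝔟₁ 𝔟₂ h₁ h₂
    obtain ⟨B₁, hB₁, H₁⟩ := IH 𝔟₁ h₁
    obtain ⟨B₂, hB₂, H₂⟩ := IH 𝔟₂ h₂
    refine ⟨B₁ ⊞ B₂, Bdd.isCoh_biprod hB₁ hB₂, fun a ha => ?_⟩
    rcases ha with ha | ha
    · obtain ⟨g, hg⟩ := H₁ a ha
      exact ⟨biprod.fst ≫ g, epi_comp _ _⟩
    · obtain ⟨g, hg⟩ := H₂ a ha
      exact ⟨biprod.snd ≫ g, epi_comp _ _⟩
  by_cases htop : 𝔞 = ⊤
  · refine ⟨B, hB, fun a ha => absurd (ha (show (1 : R) ∈ 𝔞 by rw [htop]; trivial)) ?_⟩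
    simp
  by_cases hp : 𝔞.IsPrime
  swap
  · obtain ⟨x, hx, y, hy, hxy⟩ := ((Ideal.not_isPrime_iff).1 hp).resolve_left htop
    obtain ⟨B₀, hB₀, H⟩ := join True (𝔞 ⊔ Ideal.span {x}) (𝔞 ⊔ Ideal.span {y})
      (left_lt_sup.2 fun h => hx (h (Ideal.mem_span_singleton_self x)))
      (left_lt_sup.2 fun h => hy (h (Ideal.mem_span_singleton_self y)))
    refine ⟨B₀, hB₀, fun a ha => H a ?_⟩
    have h0 : MvPolynomial.eval a x * MvPolynomial.eval a y = 0 := by rw [← map_mul]; exact ha hxy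
    rcases mul_eq_zero.1 h0 with h | h
    · exact Or.inl (sup_le ha ((Ideal.span_singleton_le_iff_mem _).2 h))
    · exact Or.inr (sup_le ha ((Ideal.span_singleton_le_iff_mem _).2 h))
  haveI := hp
  let D := R ⧸ 𝔞
  let ι : k →+* D := (Ideal.Quotient.mk 𝔞).comp MvPolynomial.C
  let q : Spec (CommRingCat.of D) ⟶ Spec (CommRingCat.of k) := Spec.map (CommRingCat.ofHom ι)
  haveI : LocallyOfFiniteType q := HasRingHomProperty.Spec_iff.2 (by
    show ι.FiniteType
    exact (RingHom.FiniteType.of_surjective _ Ideal.Quotient.mk_surjective).comp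
      (RingHom.finiteType_algebraMap.2 (inferInstance : Algebra.FiniteType k R)))
  haveI : IsLocallyNoetherian (Spec (CommRingCat.of D)) := LocallyOfFiniteType.isLocallyNoetherian q
  haveI : IsIntegral (Spec (CommRingCat.of D)) := inferInstance
  let pr : Pic13.prodK k X q ⟶ Spec (CommRingCat.of D) := pullback.snd f q
  let p₁ : Pic13.prodK k X q ⟶ X := pullback.fst f q
  haveI : LocallyOfFiniteType pr := inferInstanceAs (LocallyOfFiniteType (pullback.snd f q))
  haveI : QuasiCompact pr := inferInstanceAs (QuasiCompact (pullback.snd f q))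
  haveI : IsAffineHom p₁ := MorphismProperty.pullback_fst (P := @IsAffineHom) f q inferInstance
  haveI : IsLocallyNoetherian (Pic13.prodK k X q) := LocallyOfFiniteType.isLocallyNoetherian pr
  let B' := (Scheme.Modules.pullback p₁).obj B
  let C' := (Scheme.Modules.pullback p₁).obj C
  have hB' : Coh.IsCoh B' := ZClosLib.isCoh_pullback _ hB
  have hC' : Coh.IsCoh C' := ZClosLib.isCoh_pullback _ hC
  let Φ : B' ⟶ C' := ∑ l, (Scheme.Modules.pullback p₁).map (φ l) ≫
    LCZLib.smulHom (Coh.toGlobal pr (Ideal.Quotient.mk 𝔞 (MvPolynomial.X l))) C'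
  let I := Abelian.image Φ
  let j : I ⟶ C' := Abelian.image.ι Φ
  have hI : Coh.IsCoh I := QCoh.isCoh_kernel hC' (QCoh.isCoh_cokernel hB'.1 hC' Φ) _
  obtain ⟨U, ⟨x₀, hx₀⟩, hflat⟩ := S4698.result pr (cokernel j) (QCoh.isCoh_cokernel hI.1 hC' j)
  obtain ⟨_, ⟨d₀, rfl⟩, hxd, hdU⟩ :=
    (PrimeSpectrum.isTopologicalBasis_basic_opens (R := D)).exists_subset_of_mem_open hx₀ U.2
  obtain ⟨d, rfl⟩ := Ideal.Quotient.mk_surjective d₀
  have hd : d ∉ 𝔞 := fun h => hxd (by
    rw [Ideal.Quotient.eq_zero_iff_mem.2 h]; exact zero_mem _)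
  obtain ⟨B₁, γ, hB₁, hγ⟩ := exists_epi_pullback p₁ (QCoh.isCoh_kernel hB' hC' Φ)
  obtain ⟨B₂, hB₂, H₂⟩ := IH (𝔞 ⊔ Ideal.span {d})
    (left_lt_sup.2 fun h => hd (h (Ideal.mem_span_singleton_self d)))
  refine ⟨B₁ ⊞ B₂, Bdd.isCoh_biprod hB₁ hB₂, fun a ha => ?_⟩
  by_cases hda : MvPolynomial.eval a d = 0
  · obtain ⟨g, hg⟩ := H₂ a (sup_le ha ((Ideal.span_singleton_le_iff_mem _).2 hda))
    exact ⟨biprod.snd ≫ g, epi_comp _ _⟩
  let ev : D →+* k := Ideal.Quotient.lift 𝔞 (MvPolynomial.eval a) fun z hz => ha hz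
  have hev : ev.comp ι = RingHom.id k := RingHom.ext fun z => MvPolynomial.eval_C (f := a) z
  let t : Spec (CommRingCat.of k) ⟶ Spec (CommRingCat.of D) := Spec.map (CommRingCat.ofHom ev)
  have ht : t ≫ q = 𝟙 _ := by
    rw [← Spec.map_comp, ← CommRingCat.ofHom_comp, hev, CommRingCat.ofHom_id, Spec.map_id]
  let σ := Pic13.sliceAt k X q t ht
  have hσ : σ ≫ p₁ = 𝟙 X := pullback.lift_fst _ _ _
  have hσ₂ : σ ≫ pr = f ≫ t := pullback.lift_snd _ _ _
  haveI : Mono ((Scheme.Modules.pullback σ).map j) := mono_pullback_slice q t ht j fun x => hflat _ (by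
    show pr (σ x) ∈ U
    rw [← Scheme.Hom.comp_apply, hσ₂, Scheme.Hom.comp_apply]
    refine hdU ?_
    show Ideal.Quotient.mk 𝔞 d ∉ Ideal.comap ev (f x).asIdeal
    rw [Ideal.mem_comap, show (f x).asIdeal = ⊥ from (Ideal.eq_bot_or_top _).resolve_right (f x).2.ne_top,
      Ideal.mem_bot]
    exact hda)
  let S := Scheme.Modules.pullback σ
  let E : Scheme.Modules.pullback p₁ ⋙ S ≅ 𝟭 X.Modules :=
    Scheme.Modules.pullbackComp σ p₁ ≪≫ Scheme.Modules.pullbackCongr hσ ≪≫ Scheme.Modules.pullbackId X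
  have hΦ : S.map Φ ≫ (E.app C).hom = (E.app B).hom ≫ Bdd.comb φ a := by
    simp only [Φ, Bdd.comb, Functor.map_sum, Preadditive.sum_comp, Preadditive.comp_sum, Functor.map_comp]
    refine Finset.sum_congr rfl fun l _ => ?_
    rw [Bdd.pullback_smulHom, Bdd.toGlobal_comp, hσ₂, Bdd.toGlobal_spec,
      show ev (Ideal.Quotient.mk 𝔞 (MvPolynomial.X l)) = a l from MvPolynomial.eval_X (f := a) l,
      Category.assoc, Bdd.smulHom_comp, ← Category.assoc, ← Category.assoc]
    exact congrArg (· ≫ LCZLib.smulHom _ _) (E.hom.naturality (φ l))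
  -- exactness in the middle
  let e : B' ⟶ I := Abelian.factorThruImage Φ
  have he : e ≫ j = Φ := Abelian.image.fac Φ
  have hek : kernel.ι Φ ≫ e = 0 := by
    rw [← cancel_mono j, Category.assoc, he, kernel.condition, zero_comp]
  have hex : (ShortComplex.mk (kernel.ι Φ) e hek).Exact := by
    refine ShortComplex.exact_of_f_is_kernel _ ?_
    exact isKernelOfComp j Φ (kernelIsKernel Φ) hek he
  have hS := hex.map_of_epi_of_preservesCokernel S (inferInstanceAs (Epi (Abelian.factorThruImage Φ))) inferInstance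
  have hz : (S.map (kernel.ι Φ) ≫ (E.app B).hom) ≫ Bdd.comb φ a = 0 := by
    rw [Category.assoc, ← hΦ, ← Category.assoc, ← Functor.map_comp, kernel.condition, Functor.map_zero, zero_comp]
  let l : S.obj (kernel Φ) ⟶ kernel (Bdd.comb φ a) := kernel.lift _ _ hz
  haveI : Epi l := by
    have hS' : (ShortComplex.mk (S.map (kernel.ι Φ)) (S.map Φ)
        (by rw [← Functor.map_comp, kernel.condition, Functor.map_zero])).Exact := by
      refine ShortComplex.exact_iff_of_epi_of_isIso_of_mono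
        (S₁ := (ShortComplex.mk (kernel.ι Φ) e hek).map S)
        (S₂ := ShortComplex.mk (S.map (kernel.ι Φ)) (S.map Φ)
          (by rw [← Functor.map_comp, kernel.condition, Functor.map_zero]))
        { τ₁ := 𝟙 _, τ₂ := 𝟙 _, τ₃ := S.map j, comm₁₂ := by simp, comm₂₃ := by
            simp [← he, Functor.map_comp] } |>.1 hS
    have hS'' : (ShortComplex.mk (S.map (kernel.ι Φ) ≫ (E.app B).hom) (Bdd.comb φ a) hz).Exact := by
      refine (ShortComplex.exact_iff_of_iso ?_).1 hS'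
      exact ShortComplex.isoMk (Iso.refl _) (E.app B) (E.app C) (by simp) hΦ.symm
    exact hS''.epi_kernelLift
  haveI := hγ
  refine ⟨biprod.fst ≫ (E.app B₁).inv ≫ S.map γ ≫ l, ?_⟩
  infer_instance

end Groth.Agent.ThmA

end
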