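import Groth.Agent.QCoh.ExtendFT
import Groth.Agent.QCoh.DevissageSum
import Groth.Agent.ZClosLib.CohDescent
import Groth.Agent.QCoh.Support
import Groth.Agent.Bdd.Coker
import Groth.Prelude.Def_Pic13
import Mathlib.AlgebraicGeometry.Limits

/-!
# Bounded families have presentations by fixed coherent modules
-/

set_option autoImplicit false
set_option linter.style.haveILetI false
set_option linter.unusedSectionVars false
set_option backward.isDefEq.respectTransparency false
set_option backward.isDefEq.respectTransparency.types false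
set_option maxHeartbeats 800000
attribute [-instance] CategoryTheory.catToReflQuiver
attribute [local instance] Groth.Agent.QCoh.hasFiniteBiproducts

universe u

open CategoryTheory CategoryTheory.Limits AlgebraicGeometry TopologicalSpace Opposite

noncomputable section

namespace Groth.Agent.ThmA

open Groth.Agent

variable {X W : Scheme.{u}}

/-- Sections of a quasi-coherent module on a Noetherian scheme are hit from a coherent one. -/
theorem exists_coh_hit [IsNoetherian X] {G : X.Modules} (hG : Coh.IsQCoh G) (V : X.affineOpens)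
    (T : Set Γ(G, V.1)) (hT : T.Finite) :
    ∃ (B : X.Modules) (g : B ⟶ G), Coh.IsCoh B ∧ T ⊆ Set.range (g.app V.1) := by
  obtain ⟨N, hN, hTN⟩ := QCoh.exists_ftOn_contains hG V.2 (QCoh.extStep_qcqs V.2.isCompact) T hT
  exact ⟨N.toModules, N.ι, ⟨QCoh.isQCoh_of_ftOn hG hN, QCoh.isFT_of_ftOn hG hN⟩,
    fun t ht => N.exists_app_eq (hTN ht)⟩

/-- A coherent module on an affine scheme over a Noetherian `X` is a quotient of the pull back of a
coherent module. -/
theorem exists_epi_pullback [IsNoetherian X] [IsLocallyNoetherian W] (φ : W ⟶ X) [IsAffineHom φ]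
    {F : W.Modules} (hF : Coh.IsCoh F) :
    ∃ (B : X.Modules) (g : (Scheme.Modules.pullback φ).obj B ⟶ F), Coh.IsCoh B ∧ Epi g := by
  classical
  let G := (Scheme.Modules.pushforward φ).obj F
  have hG : Coh.IsQCoh G := QCoh.isQCoh_pushforward φ hF.1
  obtain ⟨s, hs, hcov⟩ := isCompact_iff_finite_and_eq_biUnion_affineOpens.mp
    (show IsCompact ((⊤ : X.Opens) : Set X) by simpa using isCompact_univ)
  haveI := hs.to_subtype
  haveI := Fintype.ofFinite s
  have hcov' : ∀ x : X, ∃ i : s, x ∈ i.1.1 := fun x => by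
    have hx : x ∈ (⊤ : X.Opens) := trivial
    rw [hcov] at hx
    obtain ⟨V, hV, hxV⟩ := by simpa only [Opens.mem_iSup, exists_prop] using hx
    exact ⟨⟨V, hV⟩, hxV⟩
  haveI : ∀ i : s, Module.Finite Γ(W, φ ⁻¹ᵁ i.1.1) Γ(F, φ ⁻¹ᵁ i.1.1) := fun i =>
    QCoh.finite_sections hF (i.1.2.preimage φ)
  choose T hT using fun i : s => (Module.Finite.fg_top (R := Γ(W, φ ⁻¹ᵁ i.1.1)) (M := Γ(F, φ ⁻¹ᵁ i.1.1)))
  choose B g hB hg using fun i : s =>
    exists_coh_hit hG i.1 ((fun x => (show Γ(G, i.1.1) from x)) '' (T i : Set Γ(F, φ ⁻¹ᵁ i.1.1)))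
      ((T i).finite_toSet.image _)
  let adj := Scheme.Modules.pullbackPushforwardAdjunction φ
  let g' : (Scheme.Modules.pullback φ).obj (⨁ B) ⟶ F := (adj.homEquiv _ _).symm (biproduct.desc g)
  have hBc : Coh.IsCoh (⨁ B) := QCoh.isCoh_biproduct B hB
  refine ⟨⨁ B, g', hBc, Preadditive.epi_of_isZero_cokernel g' ?_⟩
  have hC : Coh.IsQCoh (cokernel g') :=
    QCoh.isQCoh_cokernel (QCoh.isQCoh_pullback φ hBc.1) hF.1 g'
  refine QCoh.isZero_of_cover hC (fun i : s => φ ⁻¹ᵁ i.1.1) (fun i => i.1.2.preimage φ)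
    (fun w => hcov' (φ w)) fun i => subsingleton_of_forall_eq 0 fun c => ?_
  obtain ⟨f, rfl⟩ := QCoh.app_surjective_of_epi hF.1 hC (cokernel.π g') (i.1.2.preimage φ) c
  have hmem : f ∈ Submodule.span Γ(W, φ ⁻¹ᵁ i.1.1) (T i : Set Γ(F, φ ⁻¹ᵁ i.1.1)) := by rw [hT i]; trivial
  induction hmem using Submodule.span_induction with
  | mem f hf =>
    obtain ⟨b, hb⟩ := hg i ⟨f, hf, rfl⟩
    let b' := (biproduct.ι B i).app i.1.1 b
    have h1 : adj.unit.app _ ≫ (Scheme.Modules.pushforward φ).map g' = biproduct.desc g :=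
      (adj.homEquiv_unit _ _ g').symm.trans ((adj.homEquiv _ _).apply_symm_apply _)
    have h2 : g'.app (φ ⁻¹ᵁ i.1.1) ((adj.unit.app (⨁ B)).app i.1.1 b') = f := by
      refine (congrArg (fun ψ => Scheme.Modules.Hom.app ψ i.1.1 b') h1).trans ?_
      refine Eq.trans ?_ hb
      exact congrArg (fun ψ => Scheme.Modules.Hom.app ψ i.1.1 b) (biproduct.ι_desc g i)
    rw [← h2]
    exact congrArg (fun ψ => Scheme.Modules.Hom.app ψ (φ ⁻¹ᵁ i.1.1) _) (cokernel.condition g')
  | zero => exact map_zero _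
  | add a b _ _ ha hb => rw [map_add, ha, hb, add_zero]
  | smul r a _ ha => rw [Scheme.Modules.Hom.app_smul, ha, smul_zero]

variable {k : Type u} [Field k] [X.Over (Spec (CommRingCat.of k))]

/-- Members of a bounded family are cokernels of maps between two fixed coherent modules. -/
theorem exists_presentation [IsProper (X ↘ Spec (CommRingCat.of k))] {P : X.Modules → Prop}
    (hP : Pic13.IsBounded k X P) :
    ∃ A B : X.Modules, Coh.IsCoh A ∧ Coh.IsCoh B ∧ ∀ L, P L → ∃ a : A ⟶ B, Nonempty (cokernel a ≅ L) := by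
  classical
  let f := X ↘ Spec (CommRingCat.of k)
  haveI : IsLocallyNoetherian X := LocallyOfFiniteType.isLocallyNoetherian f
  haveI : CompactSpace X := QuasiCompact.compactSpace_of_compactSpace f
  haveI : IsNoetherian X := {}
  obtain ⟨T₀, q₀, hq, hqc, F₀, hF₀, hmem⟩ := hP
  haveI := hq; haveI := hqc
  haveI : CompactSpace T₀ := QuasiCompact.compactSpace_of_compactSpace q₀
  obtain ⟨s, hs, hcov⟩ := isCompact_iff_finite_and_eq_biUnion_affineOpens.mp
    (show IsCompact ((⊤ : T₀.Opens) : Set T₀) by simpa using isCompact_univ)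
  haveI := hs.to_subtype
  haveI hsA : ∀ i : s, IsAffine i.1.1.toScheme := fun i => i.1.2
  let T : Scheme.{u} := ∐ fun i : s => i.1.1.toScheme
  let π : T ⟶ T₀ := Sigma.desc fun i => i.1.1.ι
  haveI : IsAffine T := inferInstanceAs (IsAffine (∐ fun i : s => i.1.1.toScheme))
  let q : T ⟶ Spec (CommRingCat.of k) := π ≫ q₀
  haveI : LocallyOfFiniteType π :=
    IsZariskiLocalAtSource.sigmaDesc (P := @LocallyOfFiniteType) fun i => inferInstance
  haveI : LocallyOfFiniteType q := inferInstanceAs (LocallyOfFiniteType (π ≫ q₀))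
  let p₁ : Pic13.prodK k X q ⟶ X := pullback.fst f q
  haveI : IsAffineHom q := inferInstance
  haveI : IsAffineHom p₁ := MorphismProperty.pullback_fst (P := @IsAffineHom) f q inferInstance
  haveI : LocallyOfFiniteType p₁ := inferInstanceAs (LocallyOfFiniteType (pullback.fst f q))
  haveI : IsLocallyNoetherian (Pic13.prodK k X q) := LocallyOfFiniteType.isLocallyNoetherian p₁
  let m : Pic13.prodK k X q ⟶ Pic13.prodK k X q₀ :=
    pullback.map _ _ _ _ (𝟙 X) π (𝟙 _) (by simp) (by simp [q])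
  let F := (Scheme.Modules.pullback m).obj F₀
  have hF : Coh.IsCoh F := ZClosLib.isCoh_pullback _ hF₀
  obtain ⟨B, g, hB, hg⟩ := exists_epi_pullback p₁ hF
  have hB' : Coh.IsCoh ((Scheme.Modules.pullback p₁).obj B) := ZClosLib.isCoh_pullback _ hB
  obtain ⟨A, a, hA, ha⟩ := exists_epi_pullback p₁ (QCoh.isCoh_kernel hB' hF g)
  refine ⟨A, B, hA, hB, fun L hL => ?_⟩
  obtain ⟨t₀, ht₀, ⟨e⟩⟩ := hmem L hL
  obtain ⟨i, hi⟩ : ∃ i : s, t₀ (IsLocalRing.closedPoint k) ∈ i.1.1 := by
    have hx : t₀ (IsLocalRing.closedPoint k) ∈ (⊤ : T₀.Opens) := trivial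
    rw [hcov] at hx
    obtain ⟨V, hV, hxV⟩ := by simpa only [Opens.mem_iSup, exists_prop] using hx
    exact ⟨⟨V, hV⟩, hxV⟩
  have hr : Set.range t₀ ⊆ Set.range i.1.1.ι := by
    rintro _ ⟨z, rfl⟩
    rw [Scheme.Opens.range_ι, show z = IsLocalRing.closedPoint k from Subsingleton.elim _ _]
    exact hi
  let t : Spec (CommRingCat.of k) ⟶ T :=
    IsOpenImmersion.lift i.1.1.ι t₀ hr ≫ Sigma.ι (fun i : s => i.1.1.toScheme) i
  have htπ : t ≫ π = t₀ := by
    simp only [t, π, Category.assoc, Sigma.ι_desc, IsOpenImmersion.lift_fac]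
  have ht : t ≫ q = 𝟙 _ := by rw [← Category.assoc, htπ]; exact ht₀
  let σ := Pic13.sliceAt k X q t ht
  have hσ : σ ≫ p₁ = 𝟙 X := pullback.lift_fst _ _ _
  have hσm : σ ≫ m = Pic13.sliceAt k X q₀ t₀ ht₀ := by
    apply pullback.hom_ext <;> simp [σ, m, Pic13.sliceAt, htπ]
  let S := Scheme.Modules.pullback σ
  let E : Scheme.Modules.pullback p₁ ⋙ S ≅ 𝟭 X.Modules :=
    Scheme.Modules.pullbackComp σ p₁ ≪≫ Scheme.Modules.pullbackCongr hσ ≪≫ Scheme.Modules.pullbackId X
  haveI := hg; haveI := ha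
  let eC : cokernel (a ≫ kernel.ι g) ≅ F := cokernelEpiComp a (kernel.ι g) ≪≫
    IsColimit.coconePointUniqueUpToIso (colimit.isColimit _)
      (Abelian.epiIsCokernelOfKernel (limit.cone _) (limit.isLimit _))
  refine ⟨(E.app A).inv ≫ S.map (a ≫ kernel.ι g) ≫ (E.app B).hom, ⟨?_⟩⟩
  refine (cokernel.mapIso (S.map (a ≫ kernel.ι g)) _ (E.app A) (E.app B) ?_).symm ≪≫
    (PreservesCokernel.iso S _).symm ≪≫ S.mapIso eC ≪≫
    (Scheme.Modules.pullbackComp σ m).app F₀ ≪≫ (Scheme.Modules.pullbackCongr hσm).app F₀ ≪≫ e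
  rw [Iso.hom_inv_id_assoc]

end Groth.Agent.ThmA

end
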