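import Groth.Agent.ThmA.Kernels
import Groth.Agent.SheafHomX.Basic
import Groth.Agent.AmpleVan.Tw
import Groth.Agent.AmpleDev.Basic
import Groth.Agent.ExistEasy.PP.HatLemmas
import Mathlib.CategoryTheory.Abelian.Refinements

/-!
# Families of quotients and of submodules of a fixed coherent module
-/

set_option autoImplicit false
set_option linter.style.haveILetI false
set_option linter.unusedSectionVars false
set_option backward.isDefEq.respectTransparency false
set_option backward.isDefEq.respectTransparency.types false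
set_option maxHeartbeats 800000
attribute [-instance] CategoryTheory.catToReflQuiver

universe u v

open CategoryTheory CategoryTheory.Limits AlgebraicGeometry TopologicalSpace Opposite
open Groth.Agent.H23.PicMul

noncomputable section

namespace Groth.Agent.ThmA

open Groth.Agent

variable {X : Scheme.{u}} {ι : Type v}

/-- All members are quotients of one coherent module. -/
def Quo (F : ι → X.Modules) : Prop :=
  ∃ B : X.Modules, Coh.IsCoh B ∧ ∀ i, ∃ g : B ⟶ F i, Epi g

/-- All members are submodules of one coherent module. -/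
def Sub (F : ι → X.Modules) : Prop :=
  ∃ C : X.Modules, Coh.IsCoh C ∧ ∀ i, ∃ g : F i ⟶ C, Mono g

theorem Quo.of_epi {F G : ι → X.Modules} (h : Quo F) (g : ∀ i, F i ⟶ G i) (hg : ∀ i, Epi (g i)) :
    Quo G := by
  obtain ⟨B, hB, hB'⟩ := h
  refine ⟨B, hB, fun i => ?_⟩
  obtain ⟨b, hb⟩ := hB' i
  haveI := hg i
  exact ⟨b ≫ g i, epi_comp _ _⟩

theorem Sub.of_mono {F G : ι → X.Modules} (h : Sub G) (g : ∀ i, F i ⟶ G i) (hg : ∀ i, Mono (g i)) :
    Sub F := by
  obtain ⟨C, hC, hC'⟩ := h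
  refine ⟨C, hC, fun i => ?_⟩
  obtain ⟨c, hc⟩ := hC' i
  haveI := hg i
  exact ⟨g i ≫ c, mono_comp _ _⟩

theorem Quo.of_iso {F G : ι → X.Modules} (h : Quo F) (e : ∀ i, Nonempty (F i ≅ G i)) : Quo G :=
  h.of_epi (fun i => (e i).some.hom) fun _ => inferInstance

theorem Sub.of_iso {F G : ι → X.Modules} (h : Sub F) (e : ∀ i, Nonempty (F i ≅ G i)) : Sub G :=
  h.of_mono (fun i => (e i).some.inv) fun _ => inferInstance

theorem Quo.biprod {F G : ι → X.Modules} [IsLocallyNoetherian X] (h : Quo F) (h' : Quo G) :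
    Quo fun i => F i ⊞ G i := by
  obtain ⟨B, hB, hB'⟩ := h
  obtain ⟨B₁, hB₁, hB₁'⟩ := h'
  refine ⟨B ⊞ B₁, Bdd.isCoh_biprod hB hB₁, fun i => ?_⟩
  obtain ⟨b, hb⟩ := hB' i
  obtain ⟨b₁, hb₁⟩ := hB₁' i
  exact ⟨biprod.map b b₁, inferInstance⟩

theorem Sub.biprod {F G : ι → X.Modules} [IsLocallyNoetherian X] (h : Sub F) (h' : Sub G) :
    Sub fun i => F i ⊞ G i := by
  obtain ⟨C, hC, hC'⟩ := h
  obtain ⟨C₁, hC₁, hC₁'⟩ := h'
  refine ⟨C ⊞ C₁, Bdd.isCoh_biprod hC hC₁, fun i => ?_⟩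
  obtain ⟨c, hc⟩ := hC' i
  obtain ⟨c₁, hc₁⟩ := hC₁' i
  exact ⟨biprod.map c c₁, inferInstance⟩

variable {k : Type u} [Field k] [X.Over (Spec (CommRingCat.of k))] [IsProper (X ↘ Spec (CommRingCat.of k))]

/-- Kernels of maps from quotients of a fixed module to submodules of a fixed module. -/
theorem Quo.kernel (k : Type u) [Field k] [X.Over (Spec (CommRingCat.of k))]
    [IsProper (X ↘ Spec (CommRingCat.of k))] {F G : ι → X.Modules} (hF : Quo F) (hG : Sub G)
    (φ : ∀ i, F i ⟶ G i) : Quo fun i => Limits.kernel (φ i) := by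
  obtain ⟨B, hB, hB'⟩ := hF
  obtain ⟨C, hC, hC'⟩ := hG
  obtain ⟨B₀, hB₀, h₀⟩ := exists_quot_kernel k hB hC
  refine ⟨B₀, hB₀, fun i => ?_⟩
  obtain ⟨g, hg⟩ := hB' i
  obtain ⟨c, hc⟩ := hC' i
  obtain ⟨γ, hγ⟩ := h₀ (g ≫ φ i ≫ c)
  let l : Limits.kernel (g ≫ φ i ≫ c) ⟶ Limits.kernel (φ i) :=
    kernel.lift _ (kernel.ι (g ≫ φ i ≫ c) ≫ g) (by
      rw [← cancel_mono c, zero_comp, Category.assoc, Category.assoc]
      exact kernel.condition _)
  haveI : Epi l := by
    refine (epi_iff_surjective_up_to_refinements l).2 fun A a => ?_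
    obtain ⟨A', π, hπ, b, hb⟩ := surjective_up_to_refinements_of_epi g (a ≫ kernel.ι (φ i))
    refine ⟨A', π, hπ, kernel.lift _ b ?_, ?_⟩
    · rw [← Category.assoc, ← hb, Category.assoc, Category.assoc, kernel.condition_assoc, zero_comp,
        comp_zero, comp_zero]
    · rw [← cancel_mono (kernel.ι (φ i)), Category.assoc, Category.assoc, kernel.lift_ι,
        kernel.lift_ι_assoc, ← hb]
  exact ⟨γ ≫ l, epi_comp _ _⟩

/-- The inverse of an invertible module computes the sheaf of homomorphisms. -/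
theorem nonempty_hom_iso {N M : X.Modules}
    (e : Nonempty (CohB1.tensorMod N M ≅ Coh.structureModule X)) (F : X.Modules) :
    Nonempty ((SheafHomX.hom N).obj F ≅ CohB1.tensorMod F M) := by
  obtain ⟨e⟩ := e
  obtain ⟨c⟩ := H23.PicMul.comm M N
  let E : X.Modules ≌ X.Modules := CategoryTheory.Equivalence.mk (AmpleVan.tw N) (AmpleVan.tw M)
    (AmpleVan.twUnit.symm ≪≫ (DCoh.tensorBi (X := X)).flip.mapIso e.symm ≪≫ (AmpleVan.twComp N M).symm)
    (AmpleVan.twComp M N ≪≫ (DCoh.tensorBi (X := X)).flip.mapIso (c ≪≫ e) ≪≫ AmpleVan.twUnit)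
  exact ⟨((SheafHomX.adj N).rightAdjointUniq E.toAdjunction).app F⟩

/-- Twisted push forwards from a scheme on which the inverses have fixed presentations. -/
theorem quo_sub_push (k : Type u) [Field k] [X.Over (Spec (CommRingCat.of k))]
    [IsProper (X ↘ Spec (CommRingCat.of k))] {X' : Scheme.{u}} (p : X' ⟶ X) [IsProper p]
    (M N : ι → X.Modules) (hM : ∀ i, PicF.IsInvertible (M i))
    (hNM : ∀ i, PicF.cl (N i) * PicF.cl (M i) = 1) {A B : X'.Modules} (hA : Coh.IsCoh A) (hB : Coh.IsCoh B)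
    (hpres : ∀ i, ∃ a : A ⟶ B, Nonempty (cokernel a ≅ (Scheme.Modules.pullback p).obj (N i)))
    {F' : X'.Modules} (hF' : Coh.IsCoh F') :
    Quo (fun i => CohB1.tensorMod ((Coh.push p).obj F') (M i)) ∧
      Sub (fun i => CohB1.tensorMod ((Coh.push p).obj F') (M i)) := by
  haveI : IsLocallyNoetherian X := LocallyOfFiniteType.isLocallyNoetherian (X ↘ Spec (CommRingCat.of k))
  haveI : IsLocallyNoetherian X' := LocallyOfFiniteType.isLocallyNoetherian p
  haveI := QCoh.preservesFiniteLimits_push p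
  choose a ha using hpres
  let C₀ := (Coh.push p).obj ((SheafHomX.hom B).obj F')
  let C₁ := (Coh.push p).obj ((SheafHomX.hom A).obj F')
  have hC₀ : Coh.IsCoh C₀ := ExistEasy.isCoh_pushforward_proper p (SheafHomX.isCoh_hom hB hF')
  have hC₁ : Coh.IsCoh C₁ := ExistEasy.isCoh_pushforward_proper p (SheafHomX.isCoh_hom hA hF')
  let ψ : ι → (C₀ ⟶ C₁) := fun i => (Coh.push p).map ((SheafHomX.homMap (a i)).app F')
  have key : ∀ i, Nonempty (Limits.kernel (ψ i) ≅ CohB1.tensorMod ((Coh.push p).obj F') (M i)) := fun i => by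
    obtain ⟨e⟩ := ha i
    let S := ShortComplex.mk (a i) (cokernel.π (a i) ≫ e.hom) (by rw [cokernel.condition_assoc, zero_comp])
    have hS : S.Exact := by
      refine (ShortComplex.exact_iff_of_iso ?_).1
        (ShortComplex.exact_of_g_is_cokernel (ShortComplex.mk (a i) (cokernel.π (a i)) (cokernel.condition _))
          (cokernelIsCokernel (a i)))
      exact ShortComplex.isoMk (Iso.refl _) (Iso.refl _) e (by simp [S]) (by simp [S])
    haveI : Epi S.g := epi_comp _ _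
    obtain ⟨e₁⟩ := SheafHomX.exists_kernel_iso hS F'
    obtain ⟨e₂⟩ := nonempty_hom_iso (N := (Scheme.Modules.pullback p).obj (N i))
      (M := (Scheme.Modules.pullback p).obj (M i)) (cl_eq_iff.1 (by
        rw [cl_tensor]
        show PicF.pullCl p (PicF.cl (N i)) * PicF.pullCl p (PicF.cl (M i)) = _
        rw [← pullCl_mul, hNM, pullCl_one]
        rfl)) F'
    obtain ⟨e₃⟩ := AmpleDev.push_tensor_iso p (hM i) F'
    exact ⟨(PreservesKernel.iso (Coh.push p) _).symm ≪≫ (Coh.push p).mapIso (e₁.symm ≪≫ e₂) ≪≫ e₃.symm⟩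
  obtain ⟨B₀, hB₀, h₀⟩ := exists_quot_kernel k hC₀ hC₁
  exact ⟨Quo.of_iso ⟨B₀, hB₀, fun i => h₀ (ψ i)⟩ key,
    Sub.of_iso ⟨C₀, hC₀, fun i => ⟨kernel.ι (ψ i), inferInstance⟩⟩ key⟩

end Groth.Agent.ThmA

end
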